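import Groth.Agent.H3CAlg.Recip.Core
import Groth.Agent.H3CAlg.Glue.HeightOne
import Groth.Agent.H3CAlg.Tame.Laws
import Groth.Agent.S14503
import Mathlib

/-!
# Residual orders as orders of norms, and the reciprocity law
-/

set_option autoImplicit false
set_option linter.style.haveILetI false
set_option linter.unusedSectionVars false
universe u

open IsLocalRing
open scoped nonZeroDivisors TensorProduct

namespace Groth.Agent.H3CAlg.Recip

section ordFrac

variable (R : Type u) [CommRing R] {K : Type u} [Field K] [Algebra R K]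

theorem ordFrac_one : CycAlg.ordFrac R K (1 : K) = 0 := by
  rw [CycAlg.ordFrac]
  split_ifs with h
  · rw [map_one]; rfl
  · rfl

theorem ordFrac_mul {x y : K} (hx : x ≠ 0) (hy : y ≠ 0) :
    CycAlg.ordFrac R K (x * y) = CycAlg.ordFrac R K x + CycAlg.ordFrac R K y := by
  by_cases h : IsNoetherianRing R ∧ Ring.KrullDimLE 1 R ∧ Nontrivial R ∧ IsFractionRing R K
  · haveI := h.1; haveI := h.2.1; haveI := h.2.2.1; haveI := h.2.2.2
    simp only [CycAlg.ordFrac, dif_pos h]
    rw [map_mul]
    have hx' : Ring.ordFrac R x ≠ 0 := (map_ne_zero _).mpr hx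
    have hy' : Ring.ordFrac R y ≠ 0 := (map_ne_zero _).mpr hy
    obtain ⟨m, hm⟩ := WithZero.ne_zero_iff_exists.mp hx'
    obtain ⟨n, hn⟩ := WithZero.ne_zero_iff_exists.mp hy'
    rw [← hm, ← hn, ← WithZero.coe_mul]
    rfl
  · simp only [CycAlg.ordFrac, dif_neg h]
    rfl

theorem ordFrac_pow {x : K} (hx : x ≠ 0) (n : ℕ) : CycAlg.ordFrac R K (x ^ n) = (n : ℤ) * CycAlg.ordFrac R K x := by
  induction n with
  | zero => rw [pow_zero, ordFrac_one, Nat.cast_zero, zero_mul]
  | succ n ih => rw [pow_succ, ordFrac_mul R (pow_ne_zero n hx) hx, ih]; push_cast; ring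

theorem ordFrac_inv {x : K} (hx : x ≠ 0) : CycAlg.ordFrac R K x⁻¹ = -CycAlg.ordFrac R K x := by
  have h := ordFrac_mul R hx (inv_ne_zero hx)
  rw [mul_inv_cancel₀ hx, ordFrac_one] at h
  omega

theorem ordFrac_neg_one : CycAlg.ordFrac R K (-1 : K) = 0 := by
  have h := ordFrac_mul R (neg_ne_zero.mpr (one_ne_zero (α := K))) (neg_ne_zero.mpr (one_ne_zero (α := K)))
  rw [neg_one_mul, neg_neg, ordFrac_one] at h
  omega

theorem ordFrac_prod {ι : Type u} (s : Finset ι) (f : ι → K) (h : ∀ i ∈ s, f i ≠ 0) :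
    CycAlg.ordFrac R K (∏ i ∈ s, f i) = ∑ i ∈ s, CycAlg.ordFrac R K (f i) := by
  classical
  induction s using Finset.induction with
  | empty => rw [Finset.prod_empty, Finset.sum_empty, ordFrac_one]
  | insert i s hi ih =>
    rw [Finset.prod_insert hi, Finset.sum_insert hi, ordFrac_mul R (h i (Finset.mem_insert_self i s))
      (Finset.prod_ne_zero_iff.mpr fun j hj => h j (Finset.mem_insert_of_mem hj)),
      ih fun j hj => h j (Finset.mem_insert_of_mem hj)]

end ordFrac

section residual

variable {A : Type u} [CommRing A] [IsNoetherianRing A] [IsLocalRing A] {C : Type u} [CommRing C] [Algebra A C]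
  [Module.Finite A C]

/-- The residual order is the order of the norm. -/
theorem oQ_eq_ordFrac (q : Ideal A) [q.IsPrime] (hdim : ringKrullDim (A ⧸ q) = 1) (Q : Ideal C) [Q.IsPrime]
    (hQ : Q.comap (algebraMap A C) = q) {L : Type u} [CommRing L] [IsLocalRing L] [IsNoetherianRing L] [Algebra C L]
    [IsLocalization.AtPrime L Q] [Algebra A L] [IsScalarTower A C L] [Algebra (Localization.AtPrime q) L]
    [IsScalarTower A (Localization.AtPrime q) L] [IsLocalHom (algebraMap (Localization.AtPrime q) L)]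
    [FiniteDimensional (ResidueField (Localization.AtPrime q)) (ResidueField L)] {z : C} (hz : z ∉ Q) :
    oQ A Q z = CycAlg.ordFrac (A ⧸ q) q.ResidueField
      (Algebra.norm (ResidueField (Localization.AtPrime q)) (residue L (algebraMap C L z))) := by
  let Ā := A ⧸ q
  let B := C ⧸ Q
  let K := q.ResidueField
  let kL := ResidueField L
  haveI : IsLocalRing Ā := IsLocalRing.of_surjective' (Ideal.Quotient.mk q) Ideal.Quotient.mk_surjective
  letI : Algebra Ā B := (Ideal.quotientMap Q (algebraMap A C) hQ.ge).toAlgebra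
  haveI : IsScalarTower A Ā B := .of_algebraMap_eq fun r => rfl
  haveI : Module.Finite Ā B := Module.Finite.of_restrictScalars_finite A Ā B
  have hinj : Function.Injective (algebraMap Ā B) := Ideal.quotientMap_injective' hQ.le
  let φ : B →+* kL := Ideal.Quotient.lift Q ((residue L).comp (algebraMap C L)) fun w hw =>
    (residue_eq_zero_iff _).mpr ((IsLocalization.AtPrime.to_map_mem_maximal_iff L Q w).mpr hw)
  letI : Algebra B kL := φ.toAlgebra
  have hφ : ∀ w : C, algebraMap B kL (Ideal.Quotient.mk Q w) = residue L (algebraMap C L w) := fun w => rfl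
  haveI : FaithfulSMul B kL := (faithfulSMul_iff_algebraMap_injective B kL).mpr ((injective_iff_map_eq_zero _).mpr fun w hw => by
    obtain ⟨w, rfl⟩ := Ideal.Quotient.mk_surjective w
    rw [hφ, residue_eq_zero_iff, IsLocalization.AtPrime.to_map_mem_maximal_iff L Q] at hw
    exact Ideal.Quotient.eq_zero_iff_mem.mpr hw)
  haveI : IsFractionRing B kL := IsFractionRing.of_field B kL fun y => by
    obtain ⟨y, rfl⟩ := residue_surjective y
    obtain ⟨w, s, hs, hw⟩ := exists_num (Q := Q) y
    refine ⟨Ideal.Quotient.mk Q w, Ideal.Quotient.mk Q s, ?_⟩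
    rw [hφ, hφ, ← hw, map_mul]
    rw [mul_div_cancel_left₀]
    exact ((isUnit_of_notMem (L := L) hs).map (residue L)).ne_zero
  letI : Algebra Ā kL := (φ.comp (algebraMap Ā B)).toAlgebra
  haveI : IsScalarTower Ā B kL := .of_algebraMap_eq fun _ => rfl
  letI : Algebra K kL := (inferInstance : Algebra (ResidueField (Localization.AtPrime q)) (ResidueField L))
  haveI : FiniteDimensional K kL := ‹FiniteDimensional (ResidueField (Localization.AtPrime q)) (ResidueField L)›
  haveI : IsScalarTower Ā K kL := .of_algebraMap_eq fun r => by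
    obtain ⟨r, rfl⟩ := Ideal.Quotient.mk_surjective r
    show residue L (algebraMap C L (algebraMap A C r)) = residue L (algebraMap (Localization.AtPrime q) L (algebraMap A _ r))
    rw [← IsScalarTower.algebraMap_apply, ← IsScalarTower.algebraMap_apply]
  obtain ⟨hfin, h⟩ := S14503.result Ā hdim B hinj K kL (Ideal.Quotient.mk Q z)
    (fun h => hz (Ideal.Quotient.eq_zero_iff_mem.mp h))
  rw [hφ] at h
  refine Eq.trans ?_ h
  -- compare the quotients
  have hS : Shifts z ⊤ Q ⊤ Q := ⟨fun _ _ => trivial, fun w hw => Q.mul_mem_left z hw⟩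
  rw [oQ, ix_eq hS, Ix]
  haveI : Subsingleton (LinearMap.ker (sqMul z hS.1 hS.2)) := subsingleton_of_forall_eq 0 fun w => by
    obtain ⟨w, hw⟩ := w
    obtain ⟨w, rfl⟩ := Submodule.Quotient.mk_surjective _ w
    exact Subtype.ext ((mk_eq_zero_iff w).mpr ((Ideal.IsPrime.mem_or_mem ‹_› ((mk_eq_zero_iff _).mp hw)).resolve_left hz))
  rw [Module.length_eq_zero (M := LinearMap.ker (sqMul z hS.1 hS.2)), ENat.toNat_zero, Nat.cast_zero, sub_zero]
  refine congrArg (fun n : ℕ∞ => (n.toNat : ℤ)) ?_
  rw [← Module.length_eq_of_surjective (R := Ā) (S := A) Ideal.Quotient.mk_surjective]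
  let g₀ : ↥(⊤ : Ideal C) →ₗ[A] B ⧸ Ideal.span {Ideal.Quotient.mk Q z} :=
    { toFun := fun w => Ideal.Quotient.mk _ (Ideal.Quotient.mk Q (w : C))
      map_add' := fun _ _ => by rw [Submodule.coe_add, map_add, map_add]
      map_smul' := fun r w => rfl }
  let ψ : SQ ⊤ Q →ₗ[A] B ⧸ Ideal.span {Ideal.Quotient.mk Q z} :=
    ((((Q : Submodule C C).submoduleOf ⊤).restrictScalars A).liftQ g₀ (by
      intro w hw
      show Ideal.Quotient.mk (Ideal.span {Ideal.Quotient.mk Q z}) (Ideal.Quotient.mk Q (w : C)) = 0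
      rw [Ideal.Quotient.eq_zero_iff_mem.mpr (show (w : C) ∈ Q from hw), map_zero])).comp
      (Submodule.Quotient.restrictScalarsEquiv A ((Q : Submodule C C).submoduleOf ⊤)).symm.toLinearMap
  have hψ : ∀ w : ↥(⊤ : Ideal C), ψ (Submodule.Quotient.mk w) = Ideal.Quotient.mk _ (Ideal.Quotient.mk Q (w : C)) := fun w => rfl
  have hψs : Function.Surjective ψ := fun y => by
    obtain ⟨y, rfl⟩ := Ideal.Quotient.mk_surjective y
    obtain ⟨y, rfl⟩ := Ideal.Quotient.mk_surjective y
    exact ⟨Submodule.Quotient.mk ⟨y, trivial⟩, rfl⟩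
  have hψk : (LinearMap.range (sqMul z hS.1 hS.2)).restrictScalars A = LinearMap.ker ψ := by
    ext w
    obtain ⟨w, rfl⟩ := Submodule.Quotient.mk_surjective _ w
    rw [LinearMap.mem_ker, hψ, Ideal.Quotient.eq_zero_iff_mem, Ideal.mem_span_singleton']
    constructor
    · rintro ⟨v, hv⟩
      obtain ⟨v, rfl⟩ := Submodule.Quotient.mk_surjective _ v
      have h : z * (v : C) - (w : C) ∈ Q := (Submodule.Quotient.eq ((Q : Submodule C C).submoduleOf ⊤)).mp hv
      exact ⟨Ideal.Quotient.mk Q v, by rw [← map_mul, Ideal.Quotient.eq, mul_comm]; exact h⟩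
    · rintro ⟨v, hv⟩
      obtain ⟨v, rfl⟩ := Ideal.Quotient.mk_surjective v
      rw [← map_mul, Ideal.Quotient.eq, mul_comm] at hv
      exact ⟨Submodule.Quotient.mk ⟨v, trivial⟩, (Submodule.Quotient.eq _).mpr hv⟩
  exact ((Submodule.Quotient.restrictScalarsEquiv A (LinearMap.range (sqMul z hS.1 hS.2))).symm.trans
    ((Submodule.quotEquivOfEq _ _ hψk).trans (ψ.quotKerEquivOfSurjective hψs))).length_eq

end residual

section main

variable {A : Type u} [CommRing A] [IsNoetherianRing A] [IsLocalRing A]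

theorem height_one_iff (hA : ringKrullDim A = 2) {t : A} (htnz : t ∈ A⁰) {p : Ideal A} [p.IsPrime] (htp : t ∈ p) :
    p.height = 1 ↔ p ≠ maximalIdeal A := by
  have hm : (maximalIdeal A).height = 2 := by
    have := IsLocalRing.maximalIdeal_height_eq_ringKrullDim (R := A)
    rw [hA] at this
    exact WithBot.coe_inj.mp this
  have h1 : p.height ≠ 0 := fun h => notMem_nonZeroDivisors_of_mem_mem_minimalPrimes htp (Ideal.height_eq_zero_iff.mp h) htnz
  constructor
  · intro h hp
    rw [hp, hm] at h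
    exact absurd h (by decide)
  · intro hne
    have h3 := Ideal.height_strict_mono_of_isPrime_of_isPrime (lt_of_le_of_ne (IsLocalRing.le_maximalIdeal Ideal.IsPrime.ne_top') hne)
    rw [hm, show (2 : ℕ∞) = 1 + 1 from rfl, ENat.lt_add_one_iff ENat.one_ne_top] at h3
    exact le_antisymm h3 (Order.one_le_iff_ne_zero.mpr h1)

theorem dim_quotient_eq_one (hA : ringKrullDim A = 2) {t : A} (htnz : t ∈ A⁰) {p : Ideal A} [p.IsPrime] (htp : t ∈ p)
    (hne : p ≠ maximalIdeal A) : ringKrullDim (A ⧸ p) = 1 := by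
  haveI : IsLocalRing (A ⧸ p) := IsLocalRing.of_surjective' (Ideal.Quotient.mk p) Ideal.Quotient.mk_surjective
  refine le_antisymm ?_ ?_
  · have h : Ring.KrullDimLE 1 (A ⧸ p) := Ring.krullDimLE_one_iff.mpr fun P hP => by
      by_cases hmin : P ∈ minimalPrimes (A ⧸ p)
      · exact Or.inl hmin
      refine Or.inr ?_
      have hne' : P ≠ ⊥ := fun h => hmin (by rw [IsDomain.minimalPrimes_eq_singleton_bot, h]; rfl)
      haveI := hP
      have hlt : p < P.comap (Ideal.Quotient.mk p) := by
        refine lt_of_le_of_ne ((Ideal.mk_ker (I := p)).ge.trans (Ideal.ker_le_comap _)) fun h => hne' ?_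
        rw [← Ideal.map_comap_of_surjective _ Ideal.Quotient.mk_surjective P, ← h, Ideal.map_quotient_self]
      have hmax : P.comap (Ideal.Quotient.mk p) = maximalIdeal A := by
        by_contra hne2
        exact Glue.not_lt_of_mem hA htnz htp hne2 hlt
      rw [← Ideal.map_comap_of_surjective _ Ideal.Quotient.mk_surjective P, hmax]
      exact (Ideal.map_eq_top_or_isMaximal_of_surjective _ Ideal.Quotient.mk_surjective (maximalIdeal.isMaximal A)).resolve_left
        fun h => hP.ne_top (by rw [← Ideal.map_comap_of_surjective _ Ideal.Quotient.mk_surjective P, hmax, h])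
    exact (Ring.krullDimLE_iff (n := 1)).mp h
  · rw [← Nat.cast_one]
    refine Order.le_krullDim_iff.mpr ?_
    obtain ⟨x, hx, hxp⟩ := SetLike.exists_of_lt (lt_of_le_of_ne (IsLocalRing.le_maximalIdeal Ideal.IsPrime.ne_top') hne)
    let P₀ : PrimeSpectrum (A ⧸ p) := ⟨⊥, Ideal.isPrime_bot⟩
    let P₁ : PrimeSpectrum (A ⧸ p) := ⟨maximalIdeal (A ⧸ p), inferInstance⟩
    have hlt : P₀ < P₁ := by
      show (⊥ : Ideal (A ⧸ p)) < maximalIdeal (A ⧸ p)
      refine bot_lt_iff_ne_bot.mpr fun h => hxp (Ideal.Quotient.eq_zero_iff_mem.mp ?_)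
      have hmem : Ideal.Quotient.mk p x ∈ maximalIdeal (A ⧸ p) := by
        rw [mem_maximalIdeal]
        intro hu
        obtain ⟨y, hy⟩ := hu.exists_left_inv
        obtain ⟨y, rfl⟩ := Ideal.Quotient.mk_surjective y
        rw [← map_mul, ← map_one (Ideal.Quotient.mk p), Ideal.Quotient.eq] at hy
        exact (Ideal.ne_top_iff_one _).mp (maximalIdeal.isMaximal A).ne_top (by
          have := (maximalIdeal A).sub_mem ((maximalIdeal A).mul_mem_left y hx) (IsLocalRing.le_maximalIdeal Ideal.IsPrime.ne_top' hy)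
          rwa [sub_sub_cancel] at this)
      rw [h, Ideal.mem_bot] at hmem
      exact hmem
    exact ⟨(RelSeries.singleton _ P₀).snoc P₁ hlt, rfl⟩

set_option maxHeartbeats 1000000 in
/-- The reciprocity law in dimension two. -/
theorem finsum_ordFrac_eq_zero (hA : ringKrullDim A = 2) (a b : A) (ha : a ∈ A⁰) (hb : b ∈ A⁰) :
    ∑ᶠ (q : PrimeSpectrum A) (_ : q.asIdeal.height = 1), CycAlg.ordFrac (A ⧸ q.asIdeal) q.asIdeal.ResidueField
      (CycAlg.tameSymbol (Localization.AtPrime q.asIdeal) (algebraMap A (Localization.AtPrime q.asIdeal) a)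
        (algebraMap A (Localization.AtPrime q.asIdeal) b)) = 0 := by
  classical
  have htnz : a * b ∈ A⁰ := mul_mem ha hb
  -- the finitely many primes which matter
  let S : Set (PrimeSpectrum A) := {q | q.asIdeal.height = 1 ∧ a * b ∈ q.asIdeal}
  have hS : S.Finite := by
    refine ((Ideal.finite_minimalPrimes_of_isNoetherianRing A (Ideal.span {a * b})).preimage
      (fun p _ q _ h => PrimeSpectrum.ext h)).subset (fun q hq => ?_)
    refine ⟨⟨q.isPrime, (Ideal.span_singleton_le_iff_mem _).mpr hq.2⟩, fun p hp hle => ?_⟩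
    haveI := hp.1
    have htp : a * b ∈ p := hp.2 (Ideal.mem_span_singleton_self _)
    refine ((eq_or_lt_of_le hle).resolve_right ?_).ge
    exact Glue.not_lt_of_mem hA htnz htp ((height_one_iff hA htnz hq.2).mp hq.1)
  haveI := hS.fintype
  let r := Fintype.card S
  let en : Fin r ≃ S := (Fintype.equivFin S).symm
  let q : Fin r → Ideal A := fun i => (en i).1.asIdeal
  haveI hqp : ∀ i, (q i).IsPrime := fun i => (en i).1.isPrime
  have hqinj : Function.Injective q := fun i j h => en.injective (Subtype.ext (PrimeSpectrum.ext h))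
  have htq : ∀ i, a * b ∈ q i := fun i => (en i).2.2
  have hqm : ∀ i, q i ≠ maximalIdeal A := fun i => (height_one_iff hA htnz (htq i)).mp (en i).2.1
  have hV : ∀ p : Ideal A, p.IsPrime → a * b ∈ p → p = maximalIdeal A ∨ ∃ i, p = q i := by
    intro p hp htp
    refine (em (p = maximalIdeal A)).imp id fun h => ?_
    haveI := hp
    refine ⟨en.symm ⟨⟨p, hp⟩, (height_one_iff hA htnz htp).mpr h, htp⟩, ?_⟩
    simp only [q, Equiv.apply_symm_apply]
  have hqdim : ∀ i, ringKrullDim (Localization.AtPrime (q i)) = 1 := fun i => by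
    rw [IsLocalization.AtPrime.ringKrullDim_eq_height (q i) (Localization.AtPrime (q i)),
      (height_one_iff hA htnz (htq i)).mpr (hqm i)]
    rfl
  have hreg : ∀ i, ∀ x ∈ A⁰, algebraMap A (Localization.AtPrime (q i)) x ∈ (Localization.AtPrime (q i))⁰ := fun i x hx =>
    IsLocalization.map_nonZeroDivisors_le (q i).primeCompl _ ⟨x, hx, rfl⟩
  -- local data
  have hloc := fun i => Tame.exists_fac_ext (hqdim i)
    (algebraMap A (Localization.AtPrime (q i)) a ::ₘ algebraMap A (Localization.AtPrime (q i)) b ::ₘ 0)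
    (by simp [hreg i a ha, hreg i b hb])
  choose B iB jB hB hBreg π hπ hfac using hloc
  choose v e hv using fun i => hfac i (algebraMap A (Localization.AtPrime (q i)) a) (by simp)
  choose w f hw using fun i => hfac i (algebraMap A (Localization.AtPrime (q i)) b) (by simp)
  haveI : ∀ i, Module.Finite (Localization.AtPrime (q i)) (B i) := fun i => (hB i).2.1
  haveI : ∀ i, Finite (MaximalSpectrum (B i)) := fun i =>
    H22Alg.finite_maximalSpectrum_of_finite (Localization.AtPrime (q i)) (B i)
  letI : ∀ i, Fintype (MaximalSpectrum (B i)) := fun i => Fintype.ofFinite _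
  haveI hlh : ∀ i (Q' : MaximalSpectrum (B i)),
      IsLocalHom (algebraMap (Localization.AtPrime (q i)) (Localization.AtPrime Q'.asIdeal)) := fun i => Tame.isLocalHom_ext (hB i)
  obtain ⟨C, iC, jC, hC, htC, hBC⟩ := Glue.glue_height_one hA (a * b) htnz r q hqinj hqm htq hV B
    (fun i => ⟨(hB i).1, (hB i).2.1, by
      obtain ⟨n, hn⟩ := (hB i).2.2
      refine ⟨n, fun x hx => hn x (Ideal.pow_right_mono ?_ n hx)⟩
      rw [Ideal.span_le, Set.singleton_subset_iff]
      exact (IsLocalization.AtPrime.to_map_mem_maximal_iff (Localization.AtPrime (q i)) (q i) _).mpr (htq i)⟩)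
    (fun i x y h => by
      have h' : algebraMap (Localization.AtPrime (q i)) (B i) (algebraMap A _ (a * b)) * (x - y) = 0 := by
        rw [mul_sub, sub_eq_zero, ← Algebra.smul_def, ← Algebra.smul_def]; exact h
      exact sub_eq_zero.mp ((mem_nonZeroDivisors_iff.mp (hBreg i _ (hreg i _ htnz))).1 _ h'))
  haveI := hC.2.1
  have ε : ∀ i, Localization.AtPrime (q i) ⊗[A] C ≃ₐ[Localization.AtPrime (q i)] B i := fun i => (hBC i).some
  -- `B i` as localizations of `C`
  let g : ∀ i, C →+* B i := fun i => (ε i).toRingEquiv.toRingHom.comp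
    (Algebra.TensorProduct.includeRight : C →ₐ[A] Localization.AtPrime (q i) ⊗[A] C).toRingHom
  letI : ∀ i, Algebra C (B i) := fun i => (g i).toAlgebra
  have hg : ∀ i (c : C), algebraMap C (B i) c = ε i ((1 : Localization.AtPrime (q i)) ⊗ₜ[A] c) := fun i c => rfl
  have hgA : ∀ i (x : A), algebraMap C (B i) (algebraMap A C x) =
      algebraMap (Localization.AtPrime (q i)) (B i) (algebraMap A _ x) := fun i x => by
    rw [hg, Glue.one_tmul_algebraMap]
    exact (ε i).commutes _
  haveI hlocB : ∀ i, IsLocalization (Algebra.algebraMapSubmonoid C (q i).primeCompl) (B i) := fun i => by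
    refine ⟨?_, ?_, ?_⟩
    · rintro ⟨_, s, hs, rfl⟩
      show IsUnit (algebraMap C (B i) (algebraMap A C s))
      rw [hgA]
      exact (IsLocalization.map_units (Localization.AtPrime (q i)) (⟨s, hs⟩ : (q i).primeCompl)).map _
    · intro z
      obtain ⟨c, s, hs⟩ := Glue.exists_rep (q i).primeCompl ((ε i).symm z)
      refine ⟨⟨c, ⟨algebraMap A C (s : A), s.1, s.2, rfl⟩⟩, ?_⟩
      show z * algebraMap C (B i) (algebraMap A C (s : A)) = algebraMap C (B i) c
      rw [hg i c, ← hs, ← algebraMap_smul (Localization.AtPrime (q i)) (s : A), map_smul, AlgEquiv.apply_symm_apply, hgA,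
        Algebra.smul_def, mul_comm]
    · intro c c' h
      rw [hg, hg] at h
      have h' := (ε i).injective h
      rw [← sub_eq_zero, ← TensorProduct.tmul_sub] at h'
      obtain ⟨s, hs⟩ := Glue.one_tmul_eq_zero (q i).primeCompl h'
      rw [smul_sub, sub_eq_zero, Algebra.smul_def, Algebra.smul_def] at hs
      exact ⟨⟨algebraMap A C (s : A), s.1, s.2, rfl⟩, hs⟩
  let ι := Σ i : Fin r, MaximalSpectrum (B i)
  let κ := ULift.{u} ι
  let L : ι → Type u := fun x => Localization.AtPrime x.2.asIdeal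
  let Q : ι → Ideal C := fun x => x.2.asIdeal.comap (algebraMap C (B x.1))
  haveI : ∀ x : ι, IsLocalization.AtPrime (Localization.AtPrime x.2.asIdeal) (Q x) := fun x =>
    IsLocalization.isLocalization_isLocalization_atPrime_isLocalization (Algebra.algebraMapSubmonoid C (q x.1).primeCompl)
      (Localization.AtPrime x.2.asIdeal) x.2.asIdeal
  haveI : IsNoetherianRing C := IsNoetherianRing.of_finite A C
  haveI : ∀ i, IsNoetherianRing (B i) := fun i => IsNoetherianRing.of_finite (Localization.AtPrime (q i)) (B i)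
  haveI : ∀ x : ι, IsNoetherianRing (Localization.AtPrime x.2.asIdeal) := fun x =>
    IsLocalization.isNoetherianRing x.2.asIdeal.primeCompl _ inferInstance
  have hQc : ∀ x : ι, (Q x).comap (algebraMap A C) = q x.1 := by
    intro x
    haveI := x.2.isMaximal
    have hm := Tame.comap_maximal (A := Localization.AtPrime (q x.1)) x.2.asIdeal
    ext s
    show algebraMap C (B x.1) (algebraMap A C s) ∈ x.2.asIdeal ↔ _
    rw [hgA]
    show algebraMap A _ s ∈ Ideal.comap (algebraMap (Localization.AtPrime (q x.1)) (B x.1)) x.2.asIdeal ↔ _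
    rw [hm, IsLocalization.AtPrime.to_map_mem_maximal_iff (Localization.AtPrime (q x.1)) (q x.1)]
  have hmaxB : ∀ (i : Fin r) (P : Ideal (B i)), P.IsPrime →
      algebraMap (Localization.AtPrime (q i)) (B i) (algebraMap A _ (a * b)) ∈ P → P.IsMaximal := by
    intro i P hP htP
    haveI := hP
    refine Ideal.isMaximal_of_isIntegral_of_isMaximal_comap (R := Localization.AtPrime (q i)) P ?_
    suffices h : P.comap (algebraMap (Localization.AtPrime (q i)) (B i)) = maximalIdeal _ by rw [h]; infer_instance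
    refine le_antisymm (IsLocalRing.le_maximalIdeal Ideal.IsPrime.ne_top') ?_
    let p := (P.comap (algebraMap (Localization.AtPrime (q i)) (B i))).comap (algebraMap A (Localization.AtPrime (q i)))
    have hpq : p ≤ q i := (Ideal.comap_mono (IsLocalRing.le_maximalIdeal Ideal.IsPrime.ne_top')).trans
      (IsLocalization.AtPrime.comap_maximalIdeal (Localization.AtPrime (q i)) (q i)).le
    have hpe : p = q i := (eq_or_lt_of_le hpq).resolve_right (Glue.not_lt_of_mem hA htnz htP (hqm i))
    rw [← IsLocalization.AtPrime.map_eq_maximalIdeal (q i) (Localization.AtPrime (q i)), Ideal.map_le_iff_le_comap]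
    exact hpe.ge
  -- factorizations as seen from `C`
  let u : ∀ x : ι, Localization.AtPrime x.2.asIdeal := fun x => (v x.1 x.2 : Localization.AtPrime x.2.asIdeal)
  let u' : ∀ x : ι, Localization.AtPrime x.2.asIdeal := fun x => (w x.1 x.2 : Localization.AtPrime x.2.asIdeal)
  have hCL : ∀ (x : ι) (s : A), algebraMap C (Localization.AtPrime x.2.asIdeal) (algebraMap A C s) =
      algebraMap (Localization.AtPrime (q x.1)) (Localization.AtPrime x.2.asIdeal) (algebraMap A _ s) := fun x s => by
    rw [IsScalarTower.algebraMap_apply C (B x.1), hgA, ← IsScalarTower.algebraMap_apply]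
  have hfa : ∀ x : ι, algebraMap C (Localization.AtPrime x.2.asIdeal) (algebraMap A C a) = u x * π x.1 x.2 ^ e x.1 x.2 := fun x => by
    rw [hCL]; exact hv x.1 x.2
  have hfb : ∀ x : ι, algebraMap C (Localization.AtPrime x.2.asIdeal) (algebraMap A C b) = u' x * π x.1 x.2 ^ f x.1 x.2 := fun x => by
    rw [hCL]; exact hw x.1 x.2
  have hπmax : ∀ x : ι, π x.1 x.2 ∈ maximalIdeal (Localization.AtPrime x.2.asIdeal) := by
    intro x
    rw [mem_maximalIdeal]
    intro hu
    have h1 : IsUnit (algebraMap (Localization.AtPrime (q x.1)) (Localization.AtPrime x.2.asIdeal) (algebraMap A _ (a * b))) := by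
      rw [map_mul, map_mul, hv x.1 x.2, hw x.1 x.2]
      exact ((v x.1 x.2).isUnit.mul (hu.pow _)).mul ((w x.1 x.2).isUnit.mul (hu.pow _))
    have h2 := isUnit_of_map_unit _ _ h1
    exact ((IsLocalization.AtPrime.to_map_mem_maximal_iff (Localization.AtPrime (q x.1)) (q x.1) _).mpr (htq x.1)) h2
  have hpt : ∀ x : ι, IsPoint (Q x) (π x.1 x.2) := by
    intro x
    refine ⟨fun hmax => hqm x.1 ?_, fun P hP hlt => ?_, hπ x.1 x.2, ?_, hπmax x⟩
    · rw [← hQc x]
      haveI := hmax
      exact IsLocalRing.eq_maximalIdeal (Ideal.isMaximal_comap_of_isIntegral_of_isMaximal (Q x))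
    · haveI := hP
      refine Ideal.isMaximal_of_isIntegral_of_isMaximal_comap (R := A) P ?_
      have hlt' := Ideal.IsIntegral.comap_lt_comap (R := A) hlt
      rw [hQc x] at hlt'
      have : P.comap (algebraMap A C) = maximalIdeal A := by
        by_contra hne
        exact Glue.not_lt_of_mem hA htnz (htq x.1) hne hlt'
      rw [this]
      infer_instance
    · rw [Ideal.radical_eq_sInf]
      refine le_sInf ?_
      rintro P ⟨hπP, hP⟩
      haveI := hP
      let P' := P.comap (algebraMap (B x.1) (Localization.AtPrime x.2.asIdeal))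
      have htP : algebraMap (Localization.AtPrime (q x.1)) (B x.1) (algebraMap A _ (a * b)) ∈ P' := by
        show algebraMap (B x.1) _ _ ∈ P
        rw [← IsScalarTower.algebraMap_apply, map_mul, map_mul, hv x.1 x.2, hw x.1 x.2]
        by_cases he : e x.1 x.2 = 0
        · by_cases hf : f x.1 x.2 = 0
          · exfalso
            have h1 : IsUnit (algebraMap (Localization.AtPrime (q x.1)) (Localization.AtPrime x.2.asIdeal) (algebraMap A _ (a * b))) := by
              rw [map_mul, map_mul, hv x.1 x.2, hw x.1 x.2, he, hf, pow_zero, mul_one, mul_one]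
              exact (v x.1 x.2).isUnit.mul (w x.1 x.2).isUnit
            exact ((IsLocalization.AtPrime.to_map_mem_maximal_iff (Localization.AtPrime (q x.1)) (q x.1) _).mpr (htq x.1))
              (isUnit_of_map_unit _ _ h1)
          · refine P.mul_mem_left _ (P.mul_mem_left _ ?_)
            obtain ⟨k, hk⟩ := Nat.exists_eq_succ_of_ne_zero hf
            rw [hk, pow_succ]
            exact P.mul_mem_left _ (hπP (Ideal.mem_span_singleton_self _))
        · refine P.mul_mem_right _ (P.mul_mem_left _ ?_)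
          obtain ⟨k, hk⟩ := Nat.exists_eq_succ_of_ne_zero he
          rw [hk, pow_succ]
          exact P.mul_mem_left _ (hπP (Ideal.mem_span_singleton_self _))
      have hP'm := hmaxB x.1 P' (Ideal.IsPrime.comap _) htP
      have hle : P' ≤ x.2.asIdeal := (Ideal.comap_mono (IsLocalRing.le_maximalIdeal hP.ne_top)).trans
        (IsLocalization.AtPrime.comap_maximalIdeal (Localization.AtPrime x.2.asIdeal) x.2.asIdeal).le
      have hPe : P' = x.2.asIdeal := hP'm.eq_of_le x.2.isMaximal.ne_top hle
      rw [← IsLocalization.AtPrime.map_eq_maximalIdeal x.2.asIdeal (Localization.AtPrime x.2.asIdeal), Ideal.map_le_iff_le_comap]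
      exact hPe.ge
  have hQinj : Function.Injective Q := by
    rintro ⟨i, P⟩ ⟨j, P'⟩ h
    obtain rfl : i = j := hqinj (by rw [← hQc ⟨i, P⟩, ← hQc ⟨j, P'⟩, h])
    refine congrArg (Sigma.mk i) (MaximalSpectrum.ext ?_)
    rw [← IsLocalization.map_under (Algebra.algebraMapSubmonoid C (q i).primeCompl) (B i) P.asIdeal,
      ← IsLocalization.map_under (Algebra.algebraMapSubmonoid C (q i).primeCompl) (B i) P'.asIdeal]
    exact congrArg (Ideal.map (algebraMap C (B i))) h
  have hcov : ∀ P : Ideal C, P.IsPrime → ¬ P.IsMaximal → algebraMap A C a * algebraMap A C b ∈ P →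
      ∃ x : κ, Q x.down = P := by
    intro P hP hmax htP
    haveI := hP
    rw [← map_mul] at htP
    obtain ⟨i, hi⟩ := (hV (P.comap (algebraMap A C)) inferInstance htP).resolve_left fun h => hmax (by
      refine Ideal.isMaximal_of_isIntegral_of_isMaximal_comap (R := A) P ?_
      rw [h]; infer_instance)
    have hdis : Disjoint (Algebra.algebraMapSubmonoid C (q i).primeCompl : Set C) P := Set.disjoint_left.mpr (by
      rintro _ ⟨s, hs, rfl⟩ hsP
      exact hs (hi.le hsP))
    have hPB := IsLocalization.isPrime_of_isPrime_disjoint (Algebra.algebraMapSubmonoid C (q i).primeCompl) (B i) P hP hdis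
    have hmaxP := hmaxB i _ hPB (by rw [← hgA]; exact Ideal.mem_map_of_mem _ htP)
    exact ⟨⟨⟨i, ⟨_, hmaxP⟩⟩⟩, IsLocalization.under_map_of_isPrime_disjoint (Algebra.algebraMapSubmonoid C (q i).primeCompl) (B i) hP hdis⟩
  have haC : algebraMap A C a ∈ C⁰ ∧ algebraMap A C b ∈ C⁰ := by
    rw [map_mul] at htC
    exact mul_mem_nonZeroDivisors.mp htC
  choose z s hs hz using fun x : ι => exists_num (Q := Q x) (u x)
  choose y t ht hy using fun x : ι => exists_num (Q := Q x) (u' x)
  have hzQ : ∀ x, z x ∉ Q x := fun x h => by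
    have h1 : IsUnit (algebraMap C (Localization.AtPrime x.2.asIdeal) (z x)) := by
      rw [← hz x]; exact (isUnit_of_notMem (hs x)).mul (v x.1 x.2).isUnit
    exact (IsLocalization.AtPrime.to_map_mem_maximal_iff (Localization.AtPrime x.2.asIdeal) (Q x) _).mpr h h1
  have hyQ : ∀ x, y x ∉ Q x := fun x h => by
    have h1 : IsUnit (algebraMap C (Localization.AtPrime x.2.asIdeal) (y x)) := by
      rw [← hy x]; exact (isUnit_of_notMem (ht x)).mul (w x.1 x.2).isUnit
    exact (IsLocalization.AtPrime.to_map_mem_maximal_iff (Localization.AtPrime x.2.asIdeal) (Q x) _).mpr h h1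
  -- the algebraic identity
  have key := sum_zero (A := A) (ι := κ) (Q := fun x => Q x.down) (L := fun x => Localization.AtPrime x.down.2.asIdeal)
    (π := fun x => π x.down.1 x.down.2) (fun x => hpt x.down) (fun x x' h => ULift.ext x x' (hQinj h)) haC.1 haC.2 hcov
    (u := fun x => u x.down) (v := fun x => u' x.down) (fun x => (v x.down.1 x.down.2).isUnit)
    (fun x => (w x.down.1 x.down.2).isUnit) (fun x => e x.down.1 x.down.2) (fun x => f x.down.1 x.down.2)
    (fun x => hfa x.down) (fun x => hfb x.down) (fun x => z x.down) (fun x => s x.down) (fun x => y x.down) (fun x => t x.down)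
    (fun x => hzQ x.down) (fun x => hs x.down) (fun x => hyQ x.down) (fun x => ht x.down) (fun x => hz x.down) (fun x => hy x.down)
  replace key : ∑ x : ι, ((Module.length (Localization.AtPrime x.2.asIdeal)
        (Localization.AtPrime x.2.asIdeal ⧸ Ideal.span {π x.1 x.2})).toNat : ℤ) *
        ((f x.1 x.2 : ℤ) * (oQ A (Q x) (z x) - oQ A (Q x) (s x)) -
          (e x.1 x.2 : ℤ) * (oQ A (Q x) (y x) - oQ A (Q x) (t x))) = 0 :=
    (Equiv.ulift.{u}.sum_comp (fun x : ι => ((Module.length (Localization.AtPrime x.2.asIdeal)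
        (Localization.AtPrime x.2.asIdeal ⧸ Ideal.span {π x.1 x.2})).toNat : ℤ) *
        ((f x.1 x.2 : ℤ) * (oQ A (Q x) (z x) - oQ A (Q x) (s x)) -
          (e x.1 x.2 : ℤ) * (oQ A (Q x) (y x) - oQ A (Q x) (t x))))).symm.trans key
  rw [Fintype.sum_sigma] at key
  -- the values of the symbols
  let F : PrimeSpectrum A → ℤ := fun p => CycAlg.ordFrac (A ⧸ p.asIdeal) p.asIdeal.ResidueField
    (CycAlg.tameSymbol (Localization.AtPrime p.asIdeal) (algebraMap A (Localization.AtPrime p.asIdeal) a)
      (algebraMap A (Localization.AtPrime p.asIdeal) b))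
  show ∑ᶠ p ∈ {p : PrimeSpectrum A | p.asIdeal.height = 1}, F p = 0
  rw [finsum_mem_eq_sum_of_inter_support_eq F (t := Finset.univ.map
      ⟨fun i : Fin r => (en i).1, fun i j h => en.injective (Subtype.ext h)⟩) (by
      ext p
      simp only [Set.mem_inter_iff, Set.mem_setOf_eq, Function.mem_support, Finset.coe_map, Function.Embedding.coeFn_mk,
        Set.mem_image, Finset.coe_univ, Set.mem_univ, true_and]
      constructor
      · rintro ⟨hp, hF⟩
        refine ⟨?_, hF⟩
        by_cases ht : a * b ∈ p.asIdeal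
        · exact ⟨en.symm ⟨p, hp, ht⟩, congrArg Subtype.val (en.apply_symm_apply ⟨p, hp, ht⟩)⟩
        · refine absurd ?_ hF
          have h1 : IsUnit (algebraMap A (Localization.AtPrime p.asIdeal) (a * b)) :=
            IsLocalization.map_units (Localization.AtPrime p.asIdeal) (⟨a * b, ht⟩ : p.asIdeal.primeCompl)
          rw [map_mul] at h1
          show CycAlg.ordFrac _ _ _ = 0
          rw [Tame.tameSymbol_of_isUnit (isUnit_of_mul_isUnit_left h1) (isUnit_of_mul_isUnit_right h1)]
          exact ordFrac_one _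
      · rintro ⟨⟨i, rfl⟩, hF⟩
        exact ⟨(en i).2.1, hF⟩), Finset.sum_map]
  refine Eq.trans (Finset.sum_congr rfl fun i _ => ?_) key
  -- one prime
  show CycAlg.ordFrac (A ⧸ q i) (q i).ResidueField (CycAlg.tameSymbol (Localization.AtPrime (q i))
    (algebraMap A (Localization.AtPrime (q i)) a) (algebraMap A (Localization.AtPrime (q i)) b)) = _
  rw [Tame.tameSymbol_eq_prod (hqdim i) (hB i) (hπ i) (hreg i a ha) (hreg i b hb) (hv i) (hw i)]
  haveI hfd : ∀ Q' : MaximalSpectrum (B i), FiniteDimensional (ResidueField (Localization.AtPrime (q i)))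
      (ResidueField (Localization.AtPrime Q'.asIdeal)) := fun Q' => haveI := Q'.isMaximal; Tame.finite_residue Q'.asIdeal
  refine Eq.trans (ordFrac_prod (A ⧸ q i) (K := (q i).ResidueField) Finset.univ _ fun Q' _ => Tame.fct_ne_zero _ _ _ _ _ _) ?_
  refine Finset.sum_congr rfl fun Q' _ => ?_
  let L' := Localization.AtPrime Q'.asIdeal
  have hne0 : ∀ {c : C}, c ∉ Q ⟨i, Q'⟩ → residue L' (algebraMap C L' c) ≠ 0 := fun hc =>
    ((isUnit_of_notMem (L := L') hc).map (residue L')).ne_zero
  letI : Algebra A L' := ((algebraMap (Localization.AtPrime (q i)) L').comp (algebraMap A (Localization.AtPrime (q i)))).toAlgebra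
  haveI : IsScalarTower A (Localization.AtPrime (q i)) L' := .of_algebraMap_eq fun _ => rfl
  haveI : IsScalarTower A C L' := .of_algebraMap_eq fun s => (hCL ⟨i, Q'⟩ s).symm
  have ho : ∀ {c : C}, c ∉ Q ⟨i, Q'⟩ → oQ A (Q ⟨i, Q'⟩) c = CycAlg.ordFrac (A ⧸ q i) (q i).ResidueField
      (Algebra.norm (ResidueField (Localization.AtPrime (q i))) (residue L' (algebraMap C L' c))) := fun hc =>
    oQ_eq_ordFrac (q i) (dim_quotient_eq_one hA htnz (htq i) (hqm i)) (Q ⟨i, Q'⟩) (hQc ⟨i, Q'⟩) hc
  rw [ho (hzQ ⟨i, Q'⟩), ho (hs ⟨i, Q'⟩), ho (hyQ ⟨i, Q'⟩), ho (ht ⟨i, Q'⟩), ← hz ⟨i, Q'⟩, ← hy ⟨i, Q'⟩,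
    map_mul (residue L'), map_mul (residue L'), map_mul (Algebra.norm (ResidueField (Localization.AtPrime (q i)))),
    map_mul (Algebra.norm (ResidueField (Localization.AtPrime (q i)))), Tame.fct_eq_norm_pow]
  haveI := hfd Q'
  have hN : ∀ {x : ResidueField L'}, x ≠ 0 →
      Algebra.norm (ResidueField (Localization.AtPrime (q i))) x ≠ 0 := fun hx => Algebra.norm_ne_zero_iff.mpr hx
  have hinv : ∀ {x : ResidueField L'}, x ≠ 0 → Algebra.norm (ResidueField (Localization.AtPrime (q i))) x⁻¹ =
      (Algebra.norm (ResidueField (Localization.AtPrime (q i))) x)⁻¹ := fun hx =>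
    eq_inv_of_mul_eq_one_left (by rw [← map_mul, inv_mul_cancel₀ hx, map_one])
  have hr1 := Tame.residue_ne_zero (v i Q')
  have hr2 := Tame.residue_ne_zero (w i Q')
  have hs1 := hne0 (hs ⟨i, Q'⟩)
  have ht1 := hne0 (ht ⟨i, Q'⟩)
  have hm1 : ((-1 : ResidueField L') ^ (e i Q' * f i Q')) ≠ 0 := pow_ne_zero _ (neg_ne_zero.mpr one_ne_zero)
  show CycAlg.ordFrac (A ⧸ q i) (q i).ResidueField (Algebra.norm (ResidueField (Localization.AtPrime (q i)))
    (Tame.rsym (v i Q') (w i Q') (e i Q') (f i Q') ^ (Ring.ord L' (π i Q')).toNat)) = _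
  rw [map_pow, ordFrac_pow _ (hN (Tame.rsym_ne_zero _ _ _ _)), Tame.rsym, map_mul, map_mul]
  rw [ordFrac_mul _ (mul_ne_zero (hN hm1) (hN (pow_ne_zero _ hr1))) (hN (inv_ne_zero (pow_ne_zero _ hr2))),
    ordFrac_mul _ (hN hm1) (hN (pow_ne_zero _ hr1)), hinv (pow_ne_zero _ hr2), ordFrac_inv _ (hN (pow_ne_zero _ hr2)),
    map_pow, map_pow, map_pow, ordFrac_pow _ (hN (neg_ne_zero.mpr one_ne_zero)), ordFrac_pow _ (hN hr1), ordFrac_pow _ (hN hr2),
    ordFrac_mul _ (hN hs1) (hN hr1), ordFrac_mul _ (hN ht1) (hN hr2)]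
  have hneg : CycAlg.ordFrac (A ⧸ q i) (q i).ResidueField
      (Algebra.norm (ResidueField (Localization.AtPrime (q i))) (-1 : ResidueField L')) = 0 := by
    have h1 : (Algebra.norm (ResidueField (Localization.AtPrime (q i))) (-1 : ResidueField L')) ^ 2 = 1 := by
      rw [← map_pow, neg_one_sq, map_one]
    have h2 := ordFrac_pow (A ⧸ q i) (K := (q i).ResidueField) (hN (neg_ne_zero.mpr one_ne_zero) :
      Algebra.norm (ResidueField (Localization.AtPrime (q i))) (-1 : ResidueField L') ≠ 0) 2
    rw [h1, ordFrac_one] at h2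
    omega
  rw [hneg]
  show ((Ring.ord L' (π i Q')).toNat : ℤ) * _ = ((Module.length L' (L' ⧸ Ideal.span {π i Q'})).toNat : ℤ) * _
  rw [show Module.length L' (L' ⧸ Ideal.span {π i Q'}) = Ring.ord L' (π i Q') from rfl]
  ring

end main

end Groth.Agent.H3CAlg.Recip
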