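import Groth.Agent.H3CAlg.Recip.Point
import Mathlib

/-!
# The sum of the residual orders over all points is zero
-/

set_option autoImplicit false
set_option linter.style.haveILetI false
set_option linter.unusedSectionVars false
universe u

open scoped nonZeroDivisors

namespace Groth.Agent.H3CAlg.Recip

variable {A : Type u} [CommRing A] [IsNoetherianRing A] {C : Type u} [CommRing C] [Algebra A C] [Module.Finite A C]
  {ι : Type u} [Fintype ι] {Q : ι → Ideal C} [∀ i, (Q i).IsPrime]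
  {L : ι → Type u} [∀ i, CommRing (L i)] [∀ i, IsLocalRing (L i)] [∀ i, IsNoetherianRing (L i)]
  [∀ i, Algebra C (L i)] [∀ i, IsLocalization.AtPrime (L i) (Q i)] {π : ∀ i, L i}

/-- The map to the product of the local subquotients. -/
noncomputable def diag (J I : ι → Ideal C) : SQ (⨅ i, J i) (⨅ i, I i) →ₗ[C] ((i : ι) → SQ (J i) (I i)) :=
  LinearMap.pi fun i => sqMul 1 (J' := J i) (I' := I i)
    (fun z hz => by rw [one_mul]; exact iInf_le J i hz) (fun z hz => by rw [one_mul]; exact iInf_le I i hz)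

theorem diag_mk (J I : ι → Ideal C) (z : ↥(⨅ i, J i)) (i : ι) :
    diag J I (Submodule.Quotient.mk z) i = Submodule.Quotient.mk ⟨1 * (z : C), by rw [one_mul]; exact iInf_le J i z.2⟩ := rfl

theorem diag_eq_zero {J I : ι → Ideal C} (z : ↥(⨅ i, J i)) (h : diag J I (Submodule.Quotient.mk z) = 0) :
    (Submodule.Quotient.mk z : SQ (⨅ i, J i) (⨅ i, I i)) = 0 :=
  (mk_eq_zero_iff z).mpr ((Submodule.mem_iInf _).mpr fun i => by
    have h1 : (1 : C) * (z : C) ∈ I i := (mk_eq_zero_iff (I := I i) _).mp ((diag_mk J I z i).symm.trans (congrFun h i))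
    rwa [one_mul] at h1)

/-- A common element of the steps at the other points. -/
theorem exists_sep (hQ : ∀ i, IsPoint (Q i) (π i)) (hinj : Function.Injective Q) (n : ι → ℕ) (P : Ideal C)
    (hP : P.IsPrime) (hmax : ¬ P.IsMaximal) :
    ∃ d, d ∉ P ∧ ∀ i, Q i ≠ P → d ∈ (Pw (π i) (n i) : Ideal C) := by
  classical
  have : ∀ i, ∃ s, s ∉ P ∧ (Q i ≠ P → s ∈ (Pw (π i) (n i) : Ideal C)) := by
    intro i
    by_cases h : Q i = P
    · exact ⟨1, (Ideal.ne_top_iff_one _).mp hP.ne_top, fun h' => absurd h h'⟩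
    · obtain ⟨s, hs, hsP⟩ := exists_notMem_pow (hQ i) (n i) hP hmax (Ne.symm h)
      exact ⟨s, hsP, fun _ => hs⟩
  choose s hs hs' using this
  refine ⟨∏ i, s i, fun h => ?_, fun i hi => ?_⟩
  · obtain ⟨i, -, hi⟩ := hP.prod_mem_iff.mp h
    exact hs i hi
  · obtain ⟨r, hr⟩ := Finset.dvd_prod_of_mem s (Finset.mem_univ i)
    rw [hr]
    exact Ideal.mul_mem_right _ _ (hs' i hi)

theorem finIx_diag (hQ : ∀ i, IsPoint (Q i) (π i)) (hinj : Function.Injective Q) (k n : ι → ℕ) (hkn : ∀ i, k i ≤ n i) :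
    FinIx A (diag (fun i => (Pw (π i) (k i) : Ideal C)) (fun i => (Pw (π i) (n i) : Ideal C))) := by
  classical
  haveI : IsNoetherianRing C := IsNoetherianRing.of_finite A C
  haveI := fun i => finite_SQ (C := C) (Pw (π i) (k i)) (Pw (π i) (n i))
  haveI := finite_SQ (C := C) (⨅ i, Pw (π i) (k i)) (⨅ i, Pw (π i) (n i))
  refine finIx_of_local _ fun P hP hmax => ⟨fun z hz => ?_, fun y => ?_⟩
  · obtain ⟨z, rfl⟩ := Submodule.Quotient.mk_surjective _ z
    exact ⟨1, (Ideal.ne_top_iff_one _).mp hP.ne_top, by rw [one_smul]; exact diag_eq_zero z hz⟩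
  · obtain ⟨d, hd, hdm⟩ := exists_sep hQ hinj n P hP hmax
    choose w hw using fun i => Submodule.Quotient.mk_surjective _ (y i)
    by_cases h : ∃ i, Q i = P
    · obtain ⟨i, hi⟩ := h
      have hz : d * (w i : C) ∈ ⨅ j, (Pw (π j) (k j) : Ideal C) := (Submodule.mem_iInf _).mpr fun j => by
        by_cases hj : j = i
        · subst hj; exact Ideal.mul_mem_left _ _ (w j).2
        · exact Ideal.mul_mem_right _ _ (Pw_anti (π j) (hkn j) (hdm j fun h => hj (hinj (h.trans hi.symm))))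
      refine ⟨d, hd, Submodule.Quotient.mk ⟨_, hz⟩, funext fun j => ?_⟩
      rw [diag_mk, Pi.smul_apply, ← hw j, ← Submodule.Quotient.mk_smul]
      refine (Submodule.Quotient.eq _).mpr ?_
      show 1 * (d * (w i : C)) - d * (w j : C) ∈ (Pw (π j) (n j) : Ideal C)
      by_cases hj : j = i
      · subst hj; rw [one_mul, sub_self]; exact Submodule.zero_mem _
      · have := hdm j fun h => hj (hinj (h.trans hi.symm))
        rw [one_mul]
        exact Submodule.sub_mem _ (Ideal.mul_mem_right _ _ this) (Ideal.mul_mem_right _ _ this)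
    · push Not at h
      refine ⟨d, hd, 0, ?_⟩
      rw [map_zero]
      funext j
      rw [Pi.smul_apply, ← hw j, Pi.zero_apply, ← Submodule.Quotient.mk_smul]
      exact ((mk_eq_zero_iff _).mpr (Ideal.mul_mem_right _ _ (hdm j (h j)))).symm

/-- Multiplication by an element with given exponents, between global subquotients. -/
theorem good_global (hQ : ∀ i, IsPoint (Q i) (π i)) (hinj : Function.Injective Q) {a : C} {u : ∀ i, L i}
    (hu : ∀ i, IsUnit (u i)) (e f : ι → ℕ) (ha : ∀ i, algebraMap C (L i) a = u i * π i ^ e i) :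
    Good A a ⊤ (⨅ i, Pw (π i) (f i)) (⨅ i, Pw (π i) (e i)) (⨅ i, Pw (π i) (e i + f i)) := by
  classical
  have hd : ∀ i, π i ^ e i ∣ algebraMap C (L i) a := fun i => ha i ▸ dvd_mul_left _ _
  refine ⟨⟨fun z _ => (Submodule.mem_iInf _).mpr fun i => ?_, fun z hz => (Submodule.mem_iInf _).mpr fun i =>
    mul_mem_Pw (hd i) le_rfl ((Submodule.mem_iInf _).mp hz i)⟩, finIx_sqMul _ _ _ fun P hP hmax => ?_⟩
  · exact mul_mem_Pw (k := 0) (hd i) le_rfl (by rw [Pw_zero]; trivial)
  refine ⟨fun z _ hz => ⟨1, (Ideal.ne_top_iff_one _).mp hP.ne_top, (Submodule.mem_iInf _).mpr fun i => ?_⟩, fun w hw => ?_⟩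
  · rw [one_mul, mem_Pw]
    obtain ⟨r, hr⟩ := mem_Pw.mp ((Submodule.mem_iInf _).mp hz i)
    rw [map_mul, ha i, pow_add, mul_assoc, mul_left_comm, mul_assoc] at hr
    rw [mul_cancel_left_mem_nonZeroDivisors (pow_mem (hQ i).regular _)] at hr
    exact (hu i).dvd_mul_left.mp ⟨r, hr⟩
  · obtain ⟨d, hd', hdm⟩ := exists_sep hQ hinj (fun i => e i + f i) P hP hmax
    by_cases h : ∃ i, Q i = P
    · obtain ⟨i, hi⟩ := h
      obtain ⟨r, hr⟩ := mem_Pw.mp ((Submodule.mem_iInf _).mp hw i)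
      obtain ⟨z, s, hs, hz⟩ := exists_num (Q := Q i) (↑(hu i).unit⁻¹ * r)
      refine ⟨d * s, fun h => (hP.mem_or_mem h).elim hd' (hi ▸ hs), d * z, trivial, (Submodule.mem_iInf _).mpr fun j => ?_⟩
      by_cases hj : j = i
      · subst hj
        rw [show d * s * w - a * (d * z) = d * (s * w - a * z) by ring]
        refine Ideal.mul_mem_left _ _ (mem_Pw.mpr ((dvd_zero _).trans (dvd_of_eq ?_)))
        rw [map_sub, map_mul, map_mul, ← hz, ha j, hr]
        linear_combination algebraMap C (L j) s * π j ^ e j * r * (hu j).mul_val_inv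
      · have := hdm j fun h => hj (hinj (h.trans hi.symm))
        exact Submodule.sub_mem _ (Ideal.mul_mem_right _ _ (Ideal.mul_mem_right _ _ this))
          (Ideal.mul_mem_left _ _ (Ideal.mul_mem_right _ _ this))
    · push Not at h
      refine ⟨d, hd', 0, trivial, ?_⟩
      rw [mul_zero, sub_zero]
      exact Ideal.mul_mem_right _ _ ((Submodule.mem_iInf _).mpr fun i => hdm i (h i))

/-- The decomposition over the points. -/
theorem ix_global (hQ : ∀ i, IsPoint (Q i) (π i)) (hinj : Function.Injective Q) {a : C} {u : ∀ i, L i}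
    (hu : ∀ i, IsUnit (u i)) (e f : ι → ℕ) (ha : ∀ i, algebraMap C (L i) a = u i * π i ^ e i) :
    ix A a ⊤ (⨅ i, Pw (π i) (f i)) (⨅ i, Pw (π i) (e i)) (⨅ i, Pw (π i) (e i + f i))
      + Ix A (diag (fun i => (Pw (π i) (e i) : Ideal C)) (fun i => (Pw (π i) (e i + f i) : Ideal C))) =
    Ix A (diag (fun i => (Pw (π i) 0 : Ideal C)) (fun i => (Pw (π i) (f i) : Ideal C)))
      + ∑ i, ix A a (Pw (π i) 0) (Pw (π i) (f i)) (Pw (π i) (e i)) (Pw (π i) (e i + f i)) := by
  have htop : (⨅ i, (Pw (π i) 0 : Ideal C)) = ⊤ := by simp [Pw_zero]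
  have hg := good_global (A := A) hQ hinj hu e f ha
  rw [← htop] at hg ⊢
  obtain ⟨hs, hfg⟩ := hg
  have gl : ∀ i, Good A a (Pw (π i) 0) (Pw (π i) (f i)) (Pw (π i) (e i)) (Pw (π i) (e i + f i)) := fun i =>
    good_shift (hQ i) (hu i) (ha i) 0 (f i) rfl rfl
  choose hsi hfi using gl
  obtain ⟨hpf, hpi⟩ := Ix_pi (A := A) (fun i => sqMul a (hsi i).1 (hsi i).2) hfi
  rw [ix_eq hs, Finset.sum_congr rfl fun i _ => ix_eq (A := A) (hsi i), ← hpi,
    ← Ix_comp _ _ hfg (finIx_diag hQ hinj _ _ fun i => Nat.le_add_right _ _),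
    ← Ix_comp _ _ (finIx_diag hQ hinj _ _ fun i => Nat.zero_le _) hpf]
  congr 1
  refine Submodule.linearMap_qext _ (LinearMap.ext fun z => funext fun i => ?_)
  exact congrArg Submodule.Quotient.mk (Subtype.ext (show (1 : C) * (a * (z : C)) = a * (1 * (z : C)) by rw [one_mul, one_mul]))

theorem Ix_diag_add_aux (J K I : ι → Ideal C) (hKJ : ∀ i, K i ≤ J i) (hIK : ∀ i, I i ≤ K i)
    (h₁ : FinIx A (diag K I)) (h₃ : FinIx A (diag J K)) :
    Ix A (diag J I) = Ix A (diag K I) + Ix A (diag J K) := by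
  have hle0 : (⨅ i, K i) ≤ ⨅ i, J i := iInf_mono hKJ
  have hlen : (⨅ i, I i) ≤ ⨅ i, K i := iInf_mono hIK
  refine Ix_shortExact (sqIncl hle0) (LinearMap.piMap fun i => sqIncl (hKJ i))
    (sqProj hlen) (LinearMap.piMap fun i => sqProj (hIK i)) (sqIncl_injective _)
    (fun x y h => funext fun i => sqIncl_injective (hKJ i) (congrFun h i))
    (sqProj_surjective _) (fun y => ?_) (sq_exact hle0 hlen) (fun y => ?_) ?_ ?_ h₁ h₃
  · choose x hx using fun i => sqProj_surjective (hIK i) (y i)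
    exact ⟨x, funext hx⟩
  · constructor
    · intro h
      choose x hx using fun i => (sq_exact (hKJ i) (hIK i) (y i)).mp (congrFun h i)
      exact ⟨x, funext hx⟩
    · rintro ⟨x, rfl⟩
      exact funext fun i => (sq_exact (hKJ i) (hIK i) _).mpr ⟨x i, rfl⟩
  · intro z
    obtain ⟨z, rfl⟩ := Submodule.Quotient.mk_surjective _ z
    exact funext fun i => rfl
  · intro z
    obtain ⟨z, rfl⟩ := Submodule.Quotient.mk_surjective _ z
    exact funext fun i => rfl

/-- The comparison of the two diagonal contributions. -/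
theorem Ix_diag_add (hQ : ∀ i, IsPoint (Q i) (π i)) (hinj : Function.Injective Q) (k n : ι → ℕ) (hkn : ∀ i, k i ≤ n i) :
    Ix A (diag (fun i => (Pw (π i) 0 : Ideal C)) (fun i => (Pw (π i) (n i) : Ideal C))) =
      Ix A (diag (fun i => (Pw (π i) (k i) : Ideal C)) (fun i => (Pw (π i) (n i) : Ideal C)))
        + Ix A (diag (fun i => (Pw (π i) 0 : Ideal C)) (fun i => (Pw (π i) (k i) : Ideal C))) :=
  Ix_diag_add_aux _ _ _ (fun i => Pw_anti (π i) (Nat.zero_le _)) (fun i => Pw_anti (π i) (hkn i))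
    (finIx_diag hQ hinj k n hkn) (finIx_diag hQ hinj _ _ fun i => Nat.zero_le _)

/-- The solutions of `b x = a y` with constraints. -/
def symT (a b : C) (I J : Ideal C) : Submodule C (C × C) :=
  (LinearMap.ker ((LinearMap.mulLeft C b ∘ₗ LinearMap.fst C C C) - LinearMap.mulLeft C a ∘ₗ LinearMap.snd C C C)) ⊓
    (Submodule.prod (R := C) I J)

theorem mem_symT {a b : C} {I J : Ideal C} {z : C × C} : z ∈ symT a b I J ↔ b * z.1 = a * z.2 ∧ z.1 ∈ I ∧ z.2 ∈ J := by
  rw [symT]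
  simp only [Submodule.mem_inf, LinearMap.mem_ker, LinearMap.sub_apply, LinearMap.comp_apply, LinearMap.fst_apply,
    LinearMap.snd_apply, LinearMap.mulLeft_apply, Submodule.mem_prod, sub_eq_zero]

theorem symT_length_swap (a b : C) (I J : Ideal C) :
    Module.length A (symT a b I J ⧸ (Submodule.span C {((a, b) : C × C)}).submoduleOf (symT a b I J)) =
      Module.length A (symT b a J I ⧸ (Submodule.span C {((b, a) : C × C)}).submoduleOf (symT b a J I)) := by
  have hswap : ∀ z : C × C, z ∈ symT a b I J ↔ z.swap ∈ symT b a J I := fun z => by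
    rw [mem_symT, mem_symT]
    exact ⟨fun h => ⟨h.1.symm, h.2.2, h.2.1⟩, fun h => ⟨h.1.symm, h.2.2, h.2.1⟩⟩
  let ε : symT a b I J ≃ₗ[C] symT b a J I :=
    { toFun := fun z => ⟨z.1.swap, (hswap z.1).mp z.2⟩
      invFun := fun z => ⟨z.1.swap, (hswap _).mpr (by rw [Prod.swap_swap]; exact z.2)⟩
      map_add' := fun _ _ => rfl
      map_smul' := fun _ _ => rfl
      left_inv := fun z => Subtype.ext (Prod.swap_swap _)
      right_inv := fun z => Subtype.ext (Prod.swap_swap _) }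
  refine (LinearEquiv.restrictScalars A (Submodule.Quotient.equiv
    ((Submodule.span C {((a, b) : C × C)}).submoduleOf (symT a b I J))
    ((Submodule.span C {((b, a) : C × C)}).submoduleOf (symT b a J I)) ε ?_)).length_eq
  ext z
  constructor
  · rintro ⟨w, hw, rfl⟩
    obtain ⟨r, hr⟩ := Submodule.mem_span_singleton.mp hw
    refine Submodule.mem_span_singleton.mpr ⟨r, ?_⟩
    show r • ((b, a) : C × C) = w.1.swap
    rw [← show r • ((a, b) : C × C) = w.1 from hr]
    rfl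
  · intro hz
    obtain ⟨r, hr⟩ := Submodule.mem_span_singleton.mp hz
    refine ⟨ε.symm z, Submodule.mem_span_singleton.mpr ⟨r, ?_⟩, ε.apply_symm_apply z⟩
    show r • ((a, b) : C × C) = z.1.swap
    rw [← show r • ((b, a) : C × C) = z.1 from hr]
    rfl

set_option maxHeartbeats 1000000 in
/-- The index of multiplication by `a` in symmetric terms. -/
theorem ix_eq_lengths (hQ : ∀ i, IsPoint (Q i) (π i)) (hinj : Function.Injective Q) {a b : C} (ha0 : a ∈ C⁰)
    (hcov : ∀ P : Ideal C, P.IsPrime → ¬ P.IsMaximal → a * b ∈ P → ∃ i, Q i = P)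
    {u v : ∀ i, L i} (hu : ∀ i, IsUnit (u i)) (hv : ∀ i, IsUnit (v i)) (e f : ι → ℕ)
    (ha : ∀ i, algebraMap C (L i) a = u i * π i ^ e i) (hb : ∀ i, algebraMap C (L i) b = v i * π i ^ f i) :
    ix A a ⊤ (⨅ i, Pw (π i) (f i)) (⨅ i, Pw (π i) (e i)) (⨅ i, Pw (π i) (e i + f i)) =
      ((Module.length A (symT a b (⨅ i, (Pw (π i) (e i) : Ideal C)) (⨅ i, Pw (π i) (f i)) ⧸
          (Submodule.span C {((a, b) : C × C)}).submoduleOf (symT a b (⨅ i, (Pw (π i) (e i) : Ideal C)) (⨅ i, Pw (π i) (f i))))).toNat : ℤ) -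
        ((Module.length A (SQ (⨅ i, Pw (π i) (e i + f i))
          ((Ideal.span {a} * ⨅ i, (Pw (π i) (f i) : Ideal C)) ⊔ (Ideal.span {b} * ⨅ i, (Pw (π i) (e i) : Ideal C))))).toNat : ℤ) := by
  classical
  haveI : IsNoetherianRing C := IsNoetherianRing.of_finite A C
  obtain ⟨Pe, hPe⟩ : ∃ Pe : Ideal C, Pe = ⨅ i, Pw (π i) (e i) := ⟨_, rfl⟩
  obtain ⟨Pf, hPf⟩ : ∃ Pf : Ideal C, Pf = ⨅ i, Pw (π i) (f i) := ⟨_, rfl⟩
  obtain ⟨X, hX⟩ : ∃ X : Ideal C, X = ⨅ i, Pw (π i) (e i + f i) := ⟨_, rfl⟩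
  rw [← hPe, ← hPf, ← hX]
  have hgood := good_global (A := A) hQ hinj hu e f ha
  rw [← hPe, ← hPf, ← hX] at hgood
  obtain ⟨hs, hfin⟩ := hgood
  have hae : a ∈ Pe := by simpa using hs.1 1 trivial
  have hda : ∀ i, π i ^ e i ∣ algebraMap C (L i) a := fun i => ha i ▸ dvd_mul_left _ _
  have hdb : ∀ i, π i ^ f i ∣ algebraMap C (L i) b := fun i => hb i ▸ dvd_mul_left _ _
  have hbPe : ∀ z ∈ Pe, b * z ∈ X := by
    intro z hz
    rw [hX]; rw [hPe] at hz
    exact (Submodule.mem_iInf _).mpr fun i => mul_mem_Pw (hdb i) (le_of_eq (Nat.add_comm (e i) (f i))) ((Submodule.mem_iInf _).mp hz i)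
  have haPf : ∀ z, a * z ∈ X → z ∈ Pf := by
    intro z hz
    rw [hPf]; rw [hX] at hz
    refine (Submodule.mem_iInf _).mpr fun i => mem_Pw.mpr ?_
    obtain ⟨r, hr⟩ := mem_Pw.mp ((Submodule.mem_iInf _).mp hz i)
    rw [map_mul, ha i, pow_add, mul_assoc, mul_left_comm, mul_assoc] at hr
    rw [mul_cancel_left_mem_nonZeroDivisors (pow_mem (hQ i).regular _)] at hr
    exact (hu i).dvd_mul_left.mp ⟨r, hr⟩
  have hPeX : X ≤ Pe := by
    rw [hX, hPe]; exact iInf_mono fun i => Pw_anti _ (Nat.le_add_right _ _)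
  -- the kernel vanishes
  have hker : Module.length A (LinearMap.ker (sqMul a hs.1 hs.2)) = 0 := by
    haveI : Subsingleton (LinearMap.ker (sqMul a hs.1 hs.2)) := subsingleton_of_forall_eq 0 fun z => by
      obtain ⟨z, hz⟩ := z
      obtain ⟨z, rfl⟩ := Submodule.Quotient.mk_surjective _ z
      exact Subtype.ext ((mk_eq_zero_iff z).mpr (haPf _ ((mk_eq_zero_iff _).mp hz)))
    exact Module.length_eq_zero
  -- the cokernel
  let aC : Ideal C := Ideal.span {a}
  let Z : Ideal C := aC ⊔ Ideal.span {b} * Pe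
  have haC : aC ≤ Pe := (Ideal.span_singleton_le_iff_mem _).mpr hae
  have hcoker : Module.length A (SQ Pe X ⧸ LinearMap.range (sqMul a hs.1 hs.2)) = Module.length A (SQ Pe (Z ⊔ X)) := by
    refine LinearEquiv.length_eq (LinearEquiv.restrictScalars A ((Submodule.quotEquivOfEq _ _ ?_).trans
      (LinearMap.quotKerEquivOfSurjective (sqProj (J := Pe) (le_sup_right : X ≤ Z ⊔ X)) (sqProj_surjective _))))
    ext w
    obtain ⟨w, rfl⟩ := Submodule.Quotient.mk_surjective _ w
    rw [LinearMap.mem_ker, show sqProj (le_sup_right : X ≤ Z ⊔ X) (Submodule.Quotient.mk w) = Submodule.Quotient.mk w from rfl,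
      mk_eq_zero_iff]
    constructor
    · rintro ⟨z, hz⟩
      obtain ⟨z, rfl⟩ := Submodule.Quotient.mk_surjective _ z
      have h : a * (z : C) - (w : C) ∈ X := (Submodule.Quotient.eq ((X : Submodule C C).submoduleOf Pe)).mp hz
      have := (Z ⊔ X).sub_mem (Ideal.mem_sup_left (Ideal.mem_sup_left (show a * (z : C) ∈ aC from Ideal.mul_mem_right _ _ (Ideal.mem_span_singleton_self a))))
        (Ideal.mem_sup_right (S := Z) h)
      rwa [sub_sub_cancel] at this
    · intro h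
      obtain ⟨p, hp, x, hx, hpx⟩ := Submodule.mem_sup.mp h
      obtain ⟨p₁, hp₁, p₂, hp₂, rfl⟩ := Submodule.mem_sup.mp hp
      obtain ⟨r, rfl⟩ := Ideal.mem_span_singleton'.mp hp₁
      obtain ⟨q, hq, rfl⟩ := Ideal.mem_span_singleton_mul.mp hp₂
      refine ⟨Submodule.Quotient.mk ⟨r, trivial⟩, (Submodule.Quotient.eq _).mpr ?_⟩
      show a * r - (w : C) ∈ X
      rw [← hpx, show a * r - (r * a + b * q + x) = -(b * q + x) by ring]
      exact X.neg_mem (X.add_mem (hbPe q hq) hx)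
  -- the module of the symmetric description
  have hmb : ∀ z ∈ Pe, b * z ∈ Pe := fun z hz => Ideal.mul_mem_left _ b hz
  have hma : ∀ z ∈ aC, b * z ∈ aC := fun z hz => Ideal.mul_mem_left _ b hz
  let β : SQ Pe aC →ₗ[C] SQ Pe aC := sqMul b hmb hma
  haveI := finite_SQ (C := C) Pe aC
  have hfinM : Module.length A (SQ Pe aC) ≠ ⊤ := by
    refine length_ne_top_of_local (C := C) (M := SQ Pe aC) fun P hP hmax w => ?_
    obtain ⟨w, rfl⟩ := Submodule.Quotient.mk_surjective _ w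
    by_cases haP : a ∈ P
    · obtain ⟨i, hi⟩ := hcov P hP hmax (P.mul_mem_right _ haP)
      subst hi
      obtain ⟨r, hr⟩ := mem_Pw.mp ((Submodule.mem_iInf _).mp (hPe.le w.2) i)
      obtain ⟨z, s, hs', hz⟩ := exists_num (Q := Q i) (↑(hu i).unit⁻¹ * r)
      have h0 : algebraMap C (L i) (s * w - a * z) = 0 := by
        rw [map_sub, map_mul, map_mul, ← hz, ha i, hr]
        linear_combination -(algebraMap C (L i) s * π i ^ e i * r) * (hu i).mul_val_inv
      obtain ⟨t, ht⟩ := (IsLocalization.map_eq_zero_iff (Q i).primeCompl (L i) _).mp h0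
      refine ⟨(t : C) * s, fun h => (hP.mem_or_mem h).elim t.2 hs', (mk_eq_zero_iff (((t : C) * s) • w)).mpr ?_⟩
      show ((t : C) * s) * (w : C) ∈ aC
      refine Ideal.mem_span_singleton.mpr ⟨t * z, ?_⟩
      linear_combination ht
    · exact ⟨a, haP, (mk_eq_zero_iff (a • w)).mpr (Ideal.mul_mem_right _ _ (Ideal.mem_span_singleton_self a))⟩
  have hIx := Ix_finite hfinM β
  have hbcoker : Module.length A (SQ Pe aC ⧸ LinearMap.range β) = Module.length A (SQ Pe Z) := by
    refine LinearEquiv.length_eq (LinearEquiv.restrictScalars A ((Submodule.quotEquivOfEq _ _ ?_).trans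
      (LinearMap.quotKerEquivOfSurjective (sqProj (J := Pe) (le_sup_left : aC ≤ Z)) (sqProj_surjective _))))
    ext w
    obtain ⟨w, rfl⟩ := Submodule.Quotient.mk_surjective _ w
    rw [LinearMap.mem_ker, show sqProj (le_sup_left : aC ≤ Z) (Submodule.Quotient.mk w) = Submodule.Quotient.mk w from rfl,
      mk_eq_zero_iff]
    constructor
    · rintro ⟨z, hz⟩
      obtain ⟨z, rfl⟩ := Submodule.Quotient.mk_surjective _ z
      have h : b * (z : C) - (w : C) ∈ aC := (Submodule.Quotient.eq ((aC : Submodule C C).submoduleOf Pe)).mp hz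
      have := Z.sub_mem (Ideal.mem_sup_right (Ideal.mul_mem_mul (Ideal.mem_span_singleton_self b) z.2)) (Ideal.mem_sup_left h)
      rwa [sub_sub_cancel] at this
    · intro h
      obtain ⟨p₁, hp₁, p₂, hp₂, hw⟩ := Submodule.mem_sup.mp h
      obtain ⟨q, hq, rfl⟩ := Ideal.mem_span_singleton_mul.mp hp₂
      refine ⟨Submodule.Quotient.mk ⟨q, hq⟩, (Submodule.Quotient.eq _).mpr ?_⟩
      show b * q - (w : C) ∈ aC
      rw [← hw, show b * q - (p₁ + b * q) = -p₁ by ring]
      exact aC.neg_mem hp₁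
  -- compare the kernel with the symmetric module
  let T := symT a b Pe Pf
  have memT : ∀ z : C × C, z ∈ T ↔ b * z.1 = a * z.2 ∧ z.1 ∈ Pe ∧ z.2 ∈ Pf := fun z => mem_symT
  let φ : T →ₗ[C] SQ Pe aC :=
    (Submodule.mkQ _) ∘ₗ ((LinearMap.fst C C C ∘ₗ T.subtype).codRestrict Pe fun z => ((memT z.1).mp z.2).2.1)
  have hkerφ : LinearMap.ker φ = (Submodule.span C {((a, b) : C × C)}).submoduleOf T := by
    ext z
    rw [LinearMap.mem_ker]
    show Submodule.Quotient.mk _ = 0 ↔ _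
    rw [mk_eq_zero_iff]
    constructor
    · intro h
      obtain ⟨r, hr⟩ := Ideal.mem_span_singleton'.mp h
      have h1 := ((memT z.1).mp z.2).1
      change r * a = z.1.1 at hr
      rw [← hr] at h1
      refine Submodule.mem_span_singleton.mpr ⟨r, Prod.ext hr ((mul_cancel_left_mem_nonZeroDivisors ha0).mp ?_)⟩
      show a * (r * b) = a * z.1.2
      linear_combination h1
    · intro h
      obtain ⟨r, hr⟩ := Submodule.mem_span_singleton.mp h
      exact Ideal.mem_span_singleton'.mpr ⟨r, congrArg Prod.fst hr⟩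
  have hrange : LinearMap.range φ = LinearMap.ker β := by
    ext w
    obtain ⟨w, rfl⟩ := Submodule.Quotient.mk_surjective _ w
    rw [LinearMap.mem_ker, sqMul_mk, mk_eq_zero_iff]
    constructor
    · rintro ⟨z, hz⟩
      have h : (z.1.1 : C) - (w : C) ∈ aC := (Submodule.Quotient.eq ((aC : Submodule C C).submoduleOf Pe)).mp hz
      have h1 := ((memT z.1).mp z.2).1
      show b * (w : C) ∈ aC
      rw [show b * (w : C) = a * z.1.2 - b * (z.1.1 - w) by rw [← h1]; ring]
      exact aC.sub_mem (Ideal.mul_mem_right _ _ (Ideal.mem_span_singleton_self a)) (Ideal.mul_mem_left _ _ h)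
    · intro h
      obtain ⟨r, hr⟩ := Ideal.mem_span_singleton'.mp h
      have hr' : b * (w : C) = a * r := by rw [mul_comm a]; exact hr.symm
      have hrf : r ∈ Pf := haPf r (hr' ▸ hbPe w w.2)
      exact ⟨⟨((w : C), r), (memT _).mpr ⟨hr', w.2, hrf⟩⟩, rfl⟩
  have hTlen : Module.length A (LinearMap.ker β) = Module.length A (T ⧸ (Submodule.span C {((a, b) : C × C)}).submoduleOf T) := by
    rw [← hrange, ← hkerφ]
    exact (φ.quotKerEquivRange.restrictScalars A).length_eq.symm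
  -- the exact sequence
  let Y : Ideal C := (Ideal.span {a} * Pf) ⊔ (Ideal.span {b} * Pe)
  have hYX : Y ≤ X := sup_le (Ideal.mul_le.mpr fun x hx z hz => by
      obtain ⟨r, rfl⟩ := Ideal.mem_span_singleton'.mp hx
      rw [mul_assoc]; exact X.mul_mem_left _ (hs.2 z hz))
    (Ideal.mul_le.mpr fun x hx z hz => by
      obtain ⟨r, rfl⟩ := Ideal.mem_span_singleton'.mp hx
      rw [mul_assoc]; exact X.mul_mem_left _ (hbPe z hz))
  have hYZ : Y ≤ Z := sup_le (Ideal.mul_le.mpr fun x hx z _ => Ideal.mem_sup_left (aC.mul_mem_right z hx)) le_sup_right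
  have hXY : ∀ z, z ∈ X → z ∈ Z → z ∈ Y := by
    intro z hzX hzZ
    obtain ⟨p₁, hp₁, p₂, hp₂, rfl⟩ := Submodule.mem_sup.mp hzZ
    obtain ⟨r, rfl⟩ := Ideal.mem_span_singleton'.mp hp₁
    have h2 : p₂ ∈ X := hYX (Ideal.mem_sup_right hp₂)
    have h3 : a * r ∈ X := by
      have := X.sub_mem hzX h2
      rwa [add_sub_cancel_right, mul_comm] at this
    exact Y.add_mem (Ideal.mem_sup_left (mul_comm a r ▸ Ideal.mul_mem_mul (Ideal.mem_span_singleton_self a) (haPf r h3)))
      (Ideal.mem_sup_right hp₂)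
  let ι₁ : SQ X Y →ₗ[C] SQ Pe Z := Submodule.mapQ _ _ (Submodule.inclusion hPeX) fun _ hz => hYZ hz
  have hι : Function.Injective ι₁ := by
    rw [injective_iff_map_eq_zero]
    intro z hz
    obtain ⟨z, rfl⟩ := Submodule.Quotient.mk_surjective _ z
    exact (mk_eq_zero_iff z).mpr (hXY _ z.2 ((mk_eq_zero_iff (⟨z.1, hPeX z.2⟩ : Pe)).mp hz))
  have hex : Function.Exact ι₁ (sqProj (J := Pe) (le_sup_left : Z ≤ Z ⊔ X)) := by
    intro w
    obtain ⟨w, rfl⟩ := Submodule.Quotient.mk_surjective _ w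
    constructor
    · intro hw
      obtain ⟨p, hp, x, hx, hpx⟩ := Submodule.mem_sup.mp ((mk_eq_zero_iff (I := Z ⊔ X) w).mp hw)
      refine ⟨Submodule.Quotient.mk ⟨x, hx⟩, (Submodule.Quotient.eq _).mpr ?_⟩
      show x - (w : C) ∈ Z
      rw [← hpx, show x - (p + x) = -p by ring]
      exact Z.neg_mem hp
    · rintro ⟨z, hz⟩
      obtain ⟨z, rfl⟩ := Submodule.Quotient.mk_surjective _ z
      refine (mk_eq_zero_iff (I := Z ⊔ X) w).mpr ?_
      have h : (z : C) - (w : C) ∈ Z := (Submodule.Quotient.eq ((Z : Submodule C C).submoduleOf Pe)).mp hz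
      have := (Z ⊔ X).sub_mem (Ideal.mem_sup_right (S := Z) z.2) (Ideal.mem_sup_left h)
      rwa [sub_sub_cancel] at this
  have hseq := Module.length_eq_add_of_exact (ι₁.restrictScalars A) ((sqProj (J := Pe) (le_sup_left : Z ≤ Z ⊔ X)).restrictScalars A)
    hι (sqProj_surjective (J := Pe) (le_sup_left : Z ≤ Z ⊔ X)) hex
  have hfin2 : Module.length A (SQ Pe Z) ≠ ⊤ := by
    rw [← hbcoker]
    refine ne_top_of_le_ne_top hfinM ?_
    have hsur : Function.Surjective (LinearMap.range β).mkQ := Submodule.mkQ_surjective (LinearMap.range β)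
    exact Module.length_le_of_surjective ((LinearMap.range β).mkQ.restrictScalars A) hsur
  rw [hseq] at hfin2
  obtain ⟨hf1, hf2⟩ := WithTop.add_ne_top.mp hfin2
  rw [ix_eq hs]
  rw [Ix, hker, hcoker, ENat.toNat_zero]
  rw [Ix, hbcoker, hTlen, hseq, ENat.toNat_add hf1 hf2] at hIx
  push_cast at hIx ⊢
  linarith

/-- The two sides of the symmetric identity. -/
theorem ix_symm (hQ : ∀ i, IsPoint (Q i) (π i)) (hinj : Function.Injective Q) {a b : C} (ha0 : a ∈ C⁰) (hb0 : b ∈ C⁰)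
    (hcov : ∀ P : Ideal C, P.IsPrime → ¬ P.IsMaximal → a * b ∈ P → ∃ i, Q i = P)
    {u v : ∀ i, L i} (hu : ∀ i, IsUnit (u i)) (hv : ∀ i, IsUnit (v i)) (e f : ι → ℕ)
    (ha : ∀ i, algebraMap C (L i) a = u i * π i ^ e i) (hb : ∀ i, algebraMap C (L i) b = v i * π i ^ f i) :
    ix A a ⊤ (⨅ i, Pw (π i) (f i)) (⨅ i, Pw (π i) (e i)) (⨅ i, Pw (π i) (e i + f i)) =
      ix A b ⊤ (⨅ i, Pw (π i) (e i)) (⨅ i, Pw (π i) (f i)) (⨅ i, Pw (π i) (e i + f i)) := by
  have h1 := ix_eq_lengths (A := A) hQ hinj ha0 hcov hu hv e f ha hb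
  have h2 := ix_eq_lengths (A := A) hQ hinj hb0 (fun P hP hm h => hcov P hP hm (by rwa [mul_comm])) hv hu f e hb ha
  rw [show (⨅ i, (Pw (π i) (f i + e i) : Ideal C)) = ⨅ i, Pw (π i) (e i + f i) from iInf_congr fun i => by rw [Nat.add_comm]] at h2
  rw [h1, h2, sup_comm (Ideal.span {a} * _), symT_length_swap]

/-- The sum of the residual orders vanishes. -/
theorem sum_zero (hQ : ∀ i, IsPoint (Q i) (π i)) (hinj : Function.Injective Q) {a b : C} (ha0 : a ∈ C⁰) (hb0 : b ∈ C⁰)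
    (hcov : ∀ P : Ideal C, P.IsPrime → ¬ P.IsMaximal → a * b ∈ P → ∃ i, Q i = P)
    {u v : ∀ i, L i} (hu : ∀ i, IsUnit (u i)) (hv : ∀ i, IsUnit (v i)) (e f : ι → ℕ)
    (ha : ∀ i, algebraMap C (L i) a = u i * π i ^ e i) (hb : ∀ i, algebraMap C (L i) b = v i * π i ^ f i)
    (x s y t : ι → C) (hx : ∀ i, x i ∉ Q i) (hs : ∀ i, s i ∉ Q i) (hy : ∀ i, y i ∉ Q i) (ht : ∀ i, t i ∉ Q i)
    (hus : ∀ i, algebraMap C (L i) (s i) * u i = algebraMap C (L i) (x i))
    (hvt : ∀ i, algebraMap C (L i) (t i) * v i = algebraMap C (L i) (y i)) :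
    ∑ i, ((Module.length (L i) (L i ⧸ Ideal.span {π i})).toNat : ℤ) *
      ((f i : ℤ) * (oQ A (Q i) (x i) - oQ A (Q i) (s i)) - (e i : ℤ) * (oQ A (Q i) (y i) - oQ A (Q i) (t i))) = 0 := by
  have h0 := ix_symm (A := A) hQ hinj ha0 hb0 hcov hu hv e f ha hb
  have h1 := ix_global (A := A) hQ hinj hu e f ha
  have aux : ∀ n : ι → ℕ, n = (fun i => f i + e i) →
      ix A b ⊤ (⨅ i, Pw (π i) (e i)) (⨅ i, Pw (π i) (f i)) (⨅ i, Pw (π i) (n i))
        + Ix A (diag (fun i => (Pw (π i) (f i) : Ideal C)) (fun i => (Pw (π i) (n i) : Ideal C))) =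
      Ix A (diag (fun i => (Pw (π i) 0 : Ideal C)) (fun i => (Pw (π i) (e i) : Ideal C)))
        + ∑ i, ix A b (Pw (π i) 0) (Pw (π i) (e i)) (Pw (π i) (f i)) (Pw (π i) (n i)) := by
    rintro n rfl
    exact ix_global (A := A) hQ hinj hv f e hb
  have h2 := aux (fun i => e i + f i) (funext fun i => Nat.add_comm _ _)
  have h3 := Ix_diag_add (A := A) hQ hinj e (fun i => e i + f i) fun i => Nat.le_add_right _ _
  have h4 := Ix_diag_add (A := A) hQ hinj f (fun i => e i + f i) fun i => Nat.le_add_left _ _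
  rw [← Finset.sum_congr rfl fun i _ => point_diff (A := A) (hQ i) (hx i) (hs i) (hy i) (ht i) (hu i) (hv i) (e i) (f i)
    (ha i) (hb i) (hus i) (hvt i), Finset.sum_sub_distrib]
  linarith

end Groth.Agent.H3CAlg.Recip
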