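import Groth.Agent.S1869
import Groth.Agent.H22Alg.Herbrand
import Groth.Agent.H22Alg.FiniteLength
import Mathlib

/-!
# The index of maps which are isomorphisms away from the maximal ideals
-/

set_option autoImplicit false
set_option linter.style.haveILetI false
set_option linter.unusedSectionVars false
universe u

namespace Groth.Agent.H3CAlg.Recip

variable (A : Type u) [CommRing A] {C : Type u} [CommRing C] [Algebra A C]

section defs

variable {M N : Type u} [AddCommGroup M] [Module C M] [Module A M] [IsScalarTower A C M]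
  [AddCommGroup N] [Module C N] [Module A N] [IsScalarTower A C N]

/-- Kernel and cokernel have finite length over `A`. -/
def FinIx (g : M →ₗ[C] N) : Prop :=
  Module.length A (LinearMap.ker g) ≠ ⊤ ∧ Module.length A (N ⧸ LinearMap.range g) ≠ ⊤

/-- The length of the cokernel minus the length of the kernel. -/
noncomputable def Ix (g : M →ₗ[C] N) : ℤ :=
  ((Module.length A (N ⧸ LinearMap.range g)).toNat : ℤ) - ((Module.length A (LinearMap.ker g)).toNat : ℤ)

end defs

variable {A}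
variable {M N P : Type u} [AddCommGroup M] [Module C M] [Module A M] [IsScalarTower A C M]
  [AddCommGroup N] [Module C N] [Module A N] [IsScalarTower A C N]
  [AddCommGroup P] [Module C P] [Module A P] [IsScalarTower A C P]

theorem lengths_perH (g : M →ₗ[C] N) :
    Module.length A (CycAlg.perH (g.restrictScalars A) (0 : N →ₗ[A] M)) = Module.length A (LinearMap.ker g) ∧
    Module.length A (CycAlg.perH (0 : N →ₗ[A] M) (g.restrictScalars A)) = Module.length A (N ⧸ LinearMap.range g) := by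
  refine ⟨?_, ?_⟩
  · have h0 : (LinearMap.range (0 : N →ₗ[A] M)).submoduleOf (LinearMap.ker (g.restrictScalars A)) = ⊥ := by
      rw [LinearMap.range_zero, Submodule.eq_bot_iff]
      exact fun x hx => Subtype.ext ((Submodule.mem_bot A).mp hx)
    rw [(Submodule.quotEquivOfEqBot _ h0).length_eq]
    exact LinearEquiv.length_eq
      (LinearEquiv.ofEq _ ((LinearMap.ker g).restrictScalars A) (by ext; rfl) : LinearMap.ker (g.restrictScalars A) ≃ₗ[A] _)
  · let e : ↥(LinearMap.ker (0 : N →ₗ[A] M)) ≃ₗ[A] N := LinearEquiv.ofTop _ LinearMap.ker_zero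
    rw [(Submodule.Quotient.equiv ((LinearMap.range (g.restrictScalars A)).submoduleOf _) ((LinearMap.range g).restrictScalars A) e (by
      ext y
      constructor
      · rintro ⟨⟨x, hx⟩, ⟨m, hm⟩, rfl⟩
        exact ⟨m, hm⟩
      · rintro ⟨m, hm⟩
        exact ⟨e.symm y, ⟨m, hm⟩, e.apply_symm_apply y⟩)).length_eq]
    exact (Submodule.Quotient.restrictScalarsEquiv A (LinearMap.range g)).length_eq

theorem finIx_iff (g : M →ₗ[C] N) : FinIx A g ↔ CycAlg.FinCoh A (g.restrictScalars A) (0 : N →ₗ[A] M) := by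
  rw [CycAlg.FinCoh, (lengths_perH g).1, (lengths_perH g).2, FinIx, lt_top_iff_ne_top, lt_top_iff_ne_top]

theorem Ix_eq_herbrand (g : M →ₗ[C] N) : Ix A g = -CycAlg.herbrand A (g.restrictScalars A) (0 : N →ₗ[A] M) := by
  rw [CycAlg.herbrand, (lengths_perH g).1, (lengths_perH g).2, Ix, neg_sub]

theorem neg_add_aux {a b c x y z : ℤ} (h₁ : a = -x) (h₂ : b = -y) (h₃ : c = -z) (h : y = x + z) : b = a + c := by omega

set_option maxHeartbeats 1000000 in
/-- Additivity in short exact sequences. -/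
theorem Ix_shortExact {M₁ N₁ M₂ N₂ M₃ N₃ : Type u}
    [AddCommGroup M₁] [Module C M₁] [Module A M₁] [IsScalarTower A C M₁]
    [AddCommGroup N₁] [Module C N₁] [Module A N₁] [IsScalarTower A C N₁]
    [AddCommGroup M₂] [Module C M₂] [Module A M₂] [IsScalarTower A C M₂]
    [AddCommGroup N₂] [Module C N₂] [Module A N₂] [IsScalarTower A C N₂]
    [AddCommGroup M₃] [Module C M₃] [Module A M₃] [IsScalarTower A C M₃]
    [AddCommGroup N₃] [Module C N₃] [Module A N₃] [IsScalarTower A C N₃]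
    {g₁ : M₁ →ₗ[C] N₁} {g₂ : M₂ →ₗ[C] N₂} {g₃ : M₃ →ₗ[C] N₃}
    (i : M₁ →ₗ[C] M₂) (j : N₁ →ₗ[C] N₂) (p : M₂ →ₗ[C] M₃) (q : N₂ →ₗ[C] N₃)
    (hi : Function.Injective i) (hj : Function.Injective j) (hp : Function.Surjective p) (hq : Function.Surjective q)
    (hM : Function.Exact i p) (hN : Function.Exact j q) (c₁ : ∀ x, g₂ (i x) = j (g₁ x)) (c₂ : ∀ x, g₃ (p x) = q (g₂ x))
    (h₁ : FinIx A g₁) (h₃ : FinIx A g₃) : Ix A g₂ = Ix A g₁ + Ix A g₃ := by
  have k1 : g₂.restrictScalars A ∘ₗ i.restrictScalars A = j.restrictScalars A ∘ₗ g₁.restrictScalars A := LinearMap.ext c₁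
  have k2 : g₃.restrictScalars A ∘ₗ p.restrictScalars A = q.restrictScalars A ∘ₗ g₂.restrictScalars A := LinearMap.ext c₂
  have k3 : LinearMap.range (i.restrictScalars A) = LinearMap.ker (p.restrictScalars A) := by ext y; exact (hM y).symm
  have k4 : LinearMap.range (j.restrictScalars A) = LinearMap.ker (q.restrictScalars A) := by ext y; exact (hN y).symm
  have k5 := (finIx_iff g₁).mp h₁
  have k6 := (finIx_iff g₃).mp h₃
  have z1 : CycAlg.IsPeriodic (g₁.restrictScalars A) (0 : N₁ →ₗ[A] M₁) := ⟨LinearMap.comp_zero _, LinearMap.zero_comp _⟩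
  have z2 : CycAlg.IsPeriodic (g₂.restrictScalars A) (0 : N₂ →ₗ[A] M₂) := ⟨LinearMap.comp_zero _, LinearMap.zero_comp _⟩
  have z3 : CycAlg.IsPeriodic (g₃.restrictScalars A) (0 : N₃ →ₗ[A] M₃) := ⟨LinearMap.comp_zero _, LinearMap.zero_comp _⟩
  have w1 : (0 : N₂ →ₗ[A] M₂) ∘ₗ j.restrictScalars A = i.restrictScalars A ∘ₗ (0 : N₁ →ₗ[A] M₁) := by rw [LinearMap.zero_comp, LinearMap.comp_zero]
  have w2 : (0 : N₃ →ₗ[A] M₃) ∘ₗ q.restrictScalars A = p.restrictScalars A ∘ₗ (0 : N₂ →ₗ[A] M₂) := by rw [LinearMap.zero_comp, LinearMap.comp_zero]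
  have hi' : Function.Injective (i.restrictScalars A) := hi
  have hj' : Function.Injective (j.restrictScalars A) := hj
  have hp' : Function.Surjective (p.restrictScalars A) := hp
  have hq' : Function.Surjective (q.restrictScalars A) := hq
  have h := S1869.result (R := A) (g₁.restrictScalars A) 0 (g₂.restrictScalars A) 0 (g₃.restrictScalars A) 0
    z1 z2 z3 (i.restrictScalars A) (j.restrictScalars A) (p.restrictScalars A)
    (q.restrictScalars A) k1 w1 k2 w2 hi' hj' hp' hq' k3 k4 (Or.inr (Or.inl ⟨k5, k6⟩))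
  have E₁ := Ix_eq_herbrand (A := A) g₁
  have E₂ := Ix_eq_herbrand (A := A) g₂
  have E₃ := Ix_eq_herbrand (A := A) g₃
  exact neg_add_aux E₁ E₂ E₃ h.2.2.2

/-- Additivity under composition. -/
theorem Ix_comp (f : M →ₗ[C] N) (g : N →ₗ[C] P) (hf : FinIx A f) (hg : FinIx A g) :
    Ix A (g ∘ₗ f) = Ix A f + Ix A g := by
  let K := LinearMap.ker g
  let R := LinearMap.range f
  let φ : LinearMap.ker (g ∘ₗ f) →ₗ[C] K := f.restrict fun x hx => hx
  let ψ : K →ₗ[C] N ⧸ R := R.mkQ ∘ₗ K.subtype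
  let ξ : (N ⧸ R) →ₗ[C] P ⧸ LinearMap.range (g ∘ₗ f) := R.mapQ _ g (by rintro _ ⟨x, rfl⟩; exact ⟨x, rfl⟩)
  let η : (P ⧸ LinearMap.range (g ∘ₗ f)) →ₗ[C] P ⧸ LinearMap.range g := Submodule.factor (LinearMap.range_comp_le_range f g)
  have e1 : Module.length A (LinearMap.ker φ) = Module.length A (LinearMap.ker f) := by
    refine LinearEquiv.length_eq (LinearEquiv.ofBijective
      (((LinearMap.ker (g ∘ₗ f)).subtype.restrict (p := LinearMap.ker φ) (q := LinearMap.ker f)
        fun x hx => congrArg Subtype.val (show φ x = 0 from hx)).restrictScalars A) ⟨?_, ?_⟩)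
    · intro x y h
      exact Subtype.ext (Subtype.ext (congrArg Subtype.val h :))
    · intro x
      exact ⟨⟨⟨x.1, by show g (f x.1) = 0; rw [show f x.1 = 0 from x.2, map_zero]⟩, Subtype.ext x.2⟩, rfl⟩
  have s1 := H22Alg.length_ker_add_range (φ.restrictScalars A)
  have s2 := H22Alg.length_ker_add_range (ψ.restrictScalars A)
  have s3 := H22Alg.length_ker_add_range (ξ.restrictScalars A)
  have hη : Function.Surjective η := Submodule.factor_surjective (LinearMap.range_comp_le_range f g)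
  have s4 := H22Alg.length_ker_add_of_surjective (η.restrictScalars A) hη
  have r1 : LinearMap.ker (ψ.restrictScalars A) = LinearMap.range (φ.restrictScalars A) := by
    ext ⟨y, hy⟩
    constructor
    · intro h
      obtain ⟨x, rfl⟩ := (Submodule.Quotient.mk_eq_zero R).mp h
      exact ⟨⟨x, hy⟩, rfl⟩
    · rintro ⟨x, hx⟩
      exact (Submodule.Quotient.mk_eq_zero R).mpr ⟨x.1, congrArg Subtype.val hx⟩
  have r2 : LinearMap.ker (ξ.restrictScalars A) = LinearMap.range (ψ.restrictScalars A) := by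
    ext y
    obtain ⟨y, rfl⟩ := Submodule.Quotient.mk_surjective R y
    constructor
    · intro h
      obtain ⟨x, hx⟩ := (Submodule.Quotient.mk_eq_zero _).mp h
      refine ⟨⟨y - f x, by show g (y - f x) = 0; rw [map_sub, ← hx]; exact sub_self _⟩, ?_⟩
      exact (Submodule.Quotient.eq R).mpr ⟨-x, by simp⟩
    · rintro ⟨z, hz⟩
      obtain ⟨x, hx⟩ := (Submodule.Quotient.eq R).mp hz
      refine (Submodule.Quotient.mk_eq_zero _).mpr ⟨-x, ?_⟩
      show g (f (-x)) = g y
      rw [map_neg, hx, map_neg, map_sub, show g (K.subtype z) = 0 from z.2, zero_sub, neg_neg]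
  have r3 : LinearMap.ker (η.restrictScalars A) = LinearMap.range (ξ.restrictScalars A) := by
    ext y
    obtain ⟨y, rfl⟩ := Submodule.Quotient.mk_surjective _ y
    constructor
    · intro h
      obtain ⟨x, hx⟩ := (Submodule.Quotient.mk_eq_zero _).mp h
      exact ⟨R.mkQ x, congrArg _ hx⟩
    · rintro ⟨z, hz⟩
      obtain ⟨x, rfl⟩ := Submodule.Quotient.mk_surjective R z
      rw [← hz]
      exact (Submodule.Quotient.mk_eq_zero _).mpr ⟨x, rfl⟩
  have e0 : Module.length A (LinearMap.ker (φ.restrictScalars A)) = Module.length A (LinearMap.ker φ) :=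
    LinearEquiv.length_eq (LinearEquiv.ofEq _ ((LinearMap.ker φ).restrictScalars A) (by ext; rfl) :
      LinearMap.ker (φ.restrictScalars A) ≃ₗ[A] _)
  rw [r1] at s2
  rw [r2] at s3
  rw [r3] at s4
  rw [e0, e1] at s1
  obtain ⟨hf1, hf2⟩ := hf
  obtain ⟨hg1, hg2⟩ := hg
  have t1 := hg1; rw [show Module.length A (LinearMap.ker g) = _ from s2] at t1
  have t2 := hf2; rw [show Module.length A (N ⧸ LinearMap.range f) = _ from s3] at t2
  obtain ⟨t1a, t1b⟩ := WithTop.add_ne_top.mp t1
  obtain ⟨t2a, t2b⟩ := WithTop.add_ne_top.mp t2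
  simp only [Ix]
  rw [show Module.length A (LinearMap.ker (g ∘ₗ f)) = _ from s1, show Module.length A (LinearMap.ker g) = _ from s2,
    show Module.length A (N ⧸ LinearMap.range f) = _ from s3, show Module.length A (P ⧸ LinearMap.range (g ∘ₗ f)) = _ from s4,
    ENat.toNat_add hf1 t1a, ENat.toNat_add t1a t1b, ENat.toNat_add t2a t2b, ENat.toNat_add t2b hg2]
  push_cast
  ring

/-- An endomorphism of a module of finite length has index zero. -/
theorem Ix_finite (hM : Module.length A M ≠ ⊤) (g : M →ₗ[C] M) : Ix A g = 0 := by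
  have s1 := H22Alg.length_ker_add_range (g.restrictScalars A)
  have s2 := H22Alg.length_eq_range_add_quot (LinearMap.range (g.restrictScalars A))
  have e1 : Module.length A (LinearMap.ker (g.restrictScalars A)) = Module.length A (LinearMap.ker g) :=
    LinearEquiv.length_eq (LinearEquiv.ofEq _ ((LinearMap.ker g).restrictScalars A) (by ext; rfl) :
      LinearMap.ker (g.restrictScalars A) ≃ₗ[A] _)
  have e2 : Module.length A (M ⧸ LinearMap.range (g.restrictScalars A)) = Module.length A (M ⧸ LinearMap.range g) :=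
    ((Submodule.quotEquivOfEq _ ((LinearMap.range g).restrictScalars A) (by ext; rfl)).trans
      (Submodule.Quotient.restrictScalarsEquiv A (LinearMap.range g))).length_eq
  rw [e1] at s1
  rw [e2] at s2
  have hM1 := hM; rw [s1] at hM1
  have hM2 := hM; rw [s2] at hM2
  obtain ⟨a1, b1⟩ := WithTop.add_ne_top.mp hM1
  obtain ⟨-, b2⟩ := WithTop.add_ne_top.mp hM2
  have h := congrArg ENat.toNat (s1.symm.trans s2)
  rw [ENat.toNat_add a1 b1, ENat.toNat_add b1 b2] at h
  rw [Ix]
  omega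

/-- Additivity in finite products. -/
theorem Ix_pi {ι : Type u} [Fintype ι] {M N : ι → Type u} [∀ i, AddCommGroup (M i)] [∀ i, Module C (M i)]
    [∀ i, Module A (M i)] [∀ i, IsScalarTower A C (M i)] [∀ i, AddCommGroup (N i)] [∀ i, Module C (N i)]
    [∀ i, Module A (N i)] [∀ i, IsScalarTower A C (N i)] (g : ∀ i, M i →ₗ[C] N i) (hg : ∀ i, FinIx A (g i)) :
    FinIx A (LinearMap.piMap g) ∧ Ix A (LinearMap.piMap g) = ∑ i, Ix A (g i) := by
  classical
  let e1 : LinearMap.ker (LinearMap.piMap g) ≃ₗ[A] ((i : ι) → LinearMap.ker (g i)) :=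
    { toFun := fun x i => ⟨x.1 i, congrFun x.2 i⟩
      invFun := fun y => ⟨fun i => (y i).1, funext fun i => (y i).2⟩
      map_add' := fun _ _ => rfl
      map_smul' := fun _ _ => rfl
      left_inv := fun _ => rfl
      right_inv := fun _ => rfl }
  have hr : LinearMap.range (LinearMap.piMap g) = Submodule.pi Set.univ fun i => LinearMap.range (g i) := by
    ext y
    constructor
    · rintro ⟨x, rfl⟩ i -
      exact ⟨x i, rfl⟩
    · intro hy
      choose x hx using fun i => hy i (Set.mem_univ i)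
      exact ⟨x, funext hx⟩
  have l1 : Module.length A (LinearMap.ker (LinearMap.piMap g)) = ∑ i, Module.length A (LinearMap.ker (g i)) := by
    rw [e1.length_eq, Module.length_pi_of_fintype]
  have l2 : Module.length A (((i : ι) → N i) ⧸ LinearMap.range (LinearMap.piMap g)) = ∑ i, Module.length A (N i ⧸ LinearMap.range (g i)) := by
    rw [((Submodule.quotEquivOfEq _ _ hr).trans (Submodule.quotientPi fun i => LinearMap.range (g i))).restrictScalars A |>.length_eq,
      Module.length_pi_of_fintype]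
  have f1 : ∀ i ∈ (Finset.univ : Finset ι), Module.length A (LinearMap.ker (g i)) ≠ ⊤ := fun i _ => (hg i).1
  have f2 : ∀ i ∈ (Finset.univ : Finset ι), Module.length A (N i ⧸ LinearMap.range (g i)) ≠ ⊤ := fun i _ => (hg i).2
  refine ⟨⟨?_, ?_⟩, ?_⟩
  · rw [l1]; exact WithTop.sum_ne_top.mpr f1
  · rw [l2]; exact WithTop.sum_ne_top.mpr f2
  · simp only [Ix]
    rw [l1, l2, ENat.toNat_sum f1, ENat.toNat_sum f2]
    push_cast
    rw [← Finset.sum_sub_distrib]

section finlen

variable [Module.Finite A C] [IsNoetherianRing A]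

/-- A finite module which vanishes at all primes which are not maximal has finite length over the base. -/
theorem length_ne_top_of_local [Module.Finite C M]
    (h : ∀ P : Ideal C, P.IsPrime → ¬ P.IsMaximal → ∀ x : M, ∃ s ∉ P, s • x = 0) :
    Module.length A M ≠ ⊤ := by
  haveI : Module.Finite A M := Module.Finite.trans C M
  refine H22Alg.length_ne_top_of_support_maximal fun p hp => ?_
  have hp' : (Module.annihilator C M).comap (algebraMap A C) ≤ p.asIdeal := by
    rw [Module.support_eq_zeroLocus, PrimeSpectrum.mem_zeroLocus, SetLike.coe_subset_coe] at hp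
    refine le_trans (fun a ha => ?_) hp
    rw [Module.mem_annihilator]
    intro x
    rw [← algebraMap_smul C]
    exact Module.mem_annihilator.mp ha x
  obtain ⟨P, hP, hPprime, hPc⟩ := Ideal.exists_ideal_over_prime_of_isIntegral p.asIdeal (Module.annihilator C M) hp'
  by_cases hmax : P.IsMaximal
  · rw [← hPc]
    exact Ideal.isMaximal_comap_of_isIntegral_of_isMaximal P
  exfalso
  obtain ⟨T, hT⟩ := (inferInstance : Module.Finite C M).fg_top
  choose s hs hsx using h P hPprime hmax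
  classical
  have hmem : ∏ x ∈ T, s x ∈ Module.annihilator C M := by
    rw [← Submodule.annihilator_top, ← hT, Submodule.mem_annihilator_span]
    rintro ⟨x, hx⟩
    obtain ⟨r, hr⟩ := Finset.dvd_prod_of_mem s hx
    show (∏ y ∈ T, s y) • x = 0
    rw [hr, mul_comm, mul_smul, hsx x, smul_zero]
  obtain ⟨x, -, hx⟩ := hPprime.prod_mem_iff.mp (hP hmem)
  exact hs x hx

/-- Maps which are bijective away from the maximal ideals. -/
theorem finIx_of_local [Module.Finite C M] [Module.Finite C N] (g : M →ₗ[C] N)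
    (h : ∀ P : Ideal C, P.IsPrime → ¬ P.IsMaximal →
      (∀ x, g x = 0 → ∃ s ∉ P, s • x = 0) ∧ ∀ y, ∃ s ∉ P, s • y ∈ LinearMap.range g) : FinIx A g := by
  haveI : IsNoetherianRing C := IsNoetherianRing.of_finite A C
  haveI : IsNoetherian C M := isNoetherian_of_isNoetherianRing_of_finite C M
  haveI : Module.Finite C (LinearMap.ker g) := inferInstance
  refine ⟨length_ne_top_of_local (C := C) (M := LinearMap.ker g) fun P hP hmax x => ?_, length_ne_top_of_local (C := C) (M := N ⧸ LinearMap.range g) fun P hP hmax y => ?_⟩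
  · obtain ⟨s, hs, hsx⟩ := (h P hP hmax).1 x.1 x.2
    exact ⟨s, hs, Subtype.ext hsx⟩
  · obtain ⟨y, rfl⟩ := Submodule.Quotient.mk_surjective _ y
    obtain ⟨s, hs, hsy⟩ := (h P hP hmax).2 y
    exact ⟨s, hs, (Submodule.Quotient.mk_eq_zero _).mpr hsy⟩

end finlen

section subquotient

/-- The subquotient `J / (I ∩ J)`. -/
abbrev SQ (J I : Ideal C) : Type u := ↥J ⧸ (I : Submodule C C).submoduleOf J

theorem mk_eq_zero_iff {J I : Ideal C} (z : J) : (Submodule.Quotient.mk z : SQ J I) = 0 ↔ (z : C) ∈ I := by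
  rw [Submodule.Quotient.mk_eq_zero]
  rfl

/-- Multiplication by `x` between subquotients. -/
def sqMul (x : C) {J I J' I' : Ideal C} (hJ : ∀ z ∈ J, x * z ∈ J') (hI : ∀ z ∈ I, x * z ∈ I') : SQ J I →ₗ[C] SQ J' I' :=
  Submodule.mapQ _ _ ((LinearMap.mulLeft C x).restrict hJ) fun z hz => hI z.1 hz

theorem sqMul_mk (x : C) {J I J' I' : Ideal C} (hJ : ∀ z ∈ J, x * z ∈ J') (hI : ∀ z ∈ I, x * z ∈ I') (z : J) :
    sqMul x hJ hI (Submodule.Quotient.mk z) = Submodule.Quotient.mk ⟨x * z, hJ z.1 z.2⟩ := rfl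

theorem sqMul_congr {x y : C} {J I J' I' : Ideal C} {hJ : ∀ z ∈ J, x * z ∈ J'} {hI : ∀ z ∈ I, x * z ∈ I'}
    {hJy : ∀ z ∈ J, y * z ∈ J'} {hIy : ∀ z ∈ I, y * z ∈ I'} (h : ∀ z ∈ J, (x - y) * z ∈ I') :
    sqMul x hJ hI = sqMul y hJy hIy := by
  refine Submodule.linearMap_qext _ (LinearMap.ext fun z => ?_)
  exact (Submodule.Quotient.eq _).mpr (by
    show x * (z : C) - y * (z : C) ∈ I'
    rw [← sub_mul]; exact h z.1 z.2)

theorem sqMul_comp (x y : C) {J I J' I' J'' I'' : Ideal C} (hJ : ∀ z ∈ J, x * z ∈ J') (hI : ∀ z ∈ I, x * z ∈ I')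
    (hJ' : ∀ z ∈ J', y * z ∈ J'') (hI' : ∀ z ∈ I', y * z ∈ I'') :
    sqMul y hJ' hI' ∘ₗ sqMul x hJ hI =
      sqMul (y * x) (fun z hz => by rw [mul_assoc]; exact hJ' _ (hJ z hz))
        (fun z hz => by rw [mul_assoc]; exact hI' _ (hI z hz)) := by
  refine Submodule.linearMap_qext _ (LinearMap.ext fun z => ?_)
  exact congrArg Submodule.Quotient.mk (Subtype.ext (mul_assoc y x (z : C)).symm)

variable [Module.Finite A C] [IsNoetherianRing A]

theorem finite_SQ [IsNoetherianRing C] (J I : Ideal C) : Module.Finite C (SQ J I) := by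
  infer_instance

theorem finIx_sqMul (x : C) {J I J' I' : Ideal C} (hJ : ∀ z ∈ J, x * z ∈ J') (hI : ∀ z ∈ I, x * z ∈ I')
    (h : ∀ P : Ideal C, P.IsPrime → ¬ P.IsMaximal →
      (∀ z ∈ J, x * z ∈ I' → ∃ s ∉ P, s * z ∈ I) ∧ ∀ w ∈ J', ∃ s ∉ P, ∃ z ∈ J, s * w - x * z ∈ I') :
    FinIx A (sqMul x hJ hI) := by
  haveI : IsNoetherianRing C := IsNoetherianRing.of_finite A C
  haveI := finite_SQ J I
  haveI := finite_SQ J' I'
  refine finIx_of_local _ fun P hP hmax => ⟨fun z hz => ?_, fun w => ?_⟩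
  · obtain ⟨z, rfl⟩ := Submodule.Quotient.mk_surjective _ z
    rw [sqMul_mk, mk_eq_zero_iff] at hz
    obtain ⟨s, hs, hsz⟩ := (h P hP hmax).1 z.1 z.2 hz
    exact ⟨s, hs, (mk_eq_zero_iff (s • z)).mpr hsz⟩
  · obtain ⟨w, rfl⟩ := Submodule.Quotient.mk_surjective _ w
    obtain ⟨s, hs, z, hz, hsz⟩ := (h P hP hmax).2 w.1 w.2
    refine ⟨s, hs, Submodule.Quotient.mk ⟨z, hz⟩, ((Submodule.Quotient.eq _).mpr ?_).symm⟩
    exact hsz

/-- The inclusion `K / I → J / I`. -/
def sqIncl {K J I : Ideal C} (h : K ≤ J) : SQ K I →ₗ[C] SQ J I :=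
  Submodule.mapQ _ _ (Submodule.inclusion h) fun _ hz => hz

/-- The projection `J / I → J / K`. -/
def sqProj {J I K : Ideal C} (h : I ≤ K) : SQ J I →ₗ[C] SQ J K :=
  Submodule.mapQ _ _ LinearMap.id fun _ hz => h hz

theorem sqIncl_injective {K J I : Ideal C} (h : K ≤ J) : Function.Injective (sqIncl (I := I) h) := by
  rw [injective_iff_map_eq_zero]
  intro z hz
  obtain ⟨z, rfl⟩ := Submodule.Quotient.mk_surjective _ z
  exact (mk_eq_zero_iff z).mpr ((mk_eq_zero_iff (⟨z.1, h z.2⟩ : J)).mp hz)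

theorem sqProj_surjective {J I K : Ideal C} (h : I ≤ K) : Function.Surjective (sqProj (J := J) h) := fun z => by
  obtain ⟨z, rfl⟩ := Submodule.Quotient.mk_surjective _ z
  exact ⟨Submodule.Quotient.mk z, rfl⟩

theorem sq_exact {J K I : Ideal C} (hKJ : K ≤ J) (hIK : I ≤ K) :
    Function.Exact (sqIncl (I := I) hKJ) (sqProj (J := J) hIK) := by
  intro z
  obtain ⟨z, rfl⟩ := Submodule.Quotient.mk_surjective _ z
  constructor
  · intro hz
    exact ⟨Submodule.Quotient.mk ⟨z.1, (mk_eq_zero_iff (I := K) z).mp hz⟩, rfl⟩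
  · rintro ⟨w, hw⟩
    obtain ⟨w, rfl⟩ := Submodule.Quotient.mk_surjective _ w
    refine (mk_eq_zero_iff (I := K) z).mpr ?_
    have h : (w : C) - (z : C) ∈ I := (Submodule.Quotient.eq ((I : Submodule C C).submoduleOf J)).mp hw
    have := K.sub_mem w.2 (hIK h)
    rwa [sub_sub_cancel] at this

/-- Additivity for multiplication maps between filtered subquotients. -/
theorem Ix_sqMul_add (x : C) {J K I J' K' I' : Ideal C} (hKJ : K ≤ J) (hIK : I ≤ K) (hKJ' : K' ≤ J') (hIK' : I' ≤ K')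
    (hJ : ∀ z ∈ J, x * z ∈ J') (hK : ∀ z ∈ K, x * z ∈ K') (hI : ∀ z ∈ I, x * z ∈ I')
    (h₁ : FinIx A (sqMul x hK hI)) (h₃ : FinIx A (sqMul x hJ hK)) :
    Ix A (sqMul x hJ hI) = Ix A (sqMul x hK hI) + Ix A (sqMul x hJ hK) :=
  Ix_shortExact (sqIncl hKJ) (sqIncl hKJ') (sqProj hIK) (sqProj hIK') (sqIncl_injective _) (sqIncl_injective _)
    (sqProj_surjective _) (sqProj_surjective _) (sq_exact hKJ hIK) (sq_exact hKJ' hIK')
    (fun z => by obtain ⟨z, rfl⟩ := Submodule.Quotient.mk_surjective _ z; rfl)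
    (fun z => by obtain ⟨z, rfl⟩ := Submodule.Quotient.mk_surjective _ z; rfl) h₁ h₃

theorem Ix_subsingleton [Subsingleton M] [Subsingleton N] (g : M →ₗ[C] N) : Ix A g = 0 := by
  simp [Ix, Module.length_eq_zero]

theorem subsingleton_SQ {J I : Ideal C} (h : J ≤ I) : Subsingleton (SQ J I) := subsingleton_of_forall_eq 0 fun z => by
  obtain ⟨z, rfl⟩ := Submodule.Quotient.mk_surjective _ z
  exact (mk_eq_zero_iff z).mpr (h z.2)

end subquotient

end Groth.Agent.H3CAlg.Recip
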