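import Groth.Agent.H3CAlg.Recip.Index
import Mathlib

/-!
# Indices at a prime with a factorization
-/

set_option autoImplicit false
set_option linter.style.haveILetI false
set_option linter.unusedSectionVars false
universe u

open scoped nonZeroDivisors

namespace Groth.Agent.H3CAlg.Recip

section total

variable (A : Type u) [CommRing A] {C : Type u} [CommRing C] [Algebra A C]

/-- `x` maps `J` into `J'` and `I` into `I'`. -/
def Shifts (x : C) (J I J' I' : Ideal C) : Prop := (∀ z ∈ J, x * z ∈ J') ∧ ∀ z ∈ I, x * z ∈ I'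

open Classical in
/-- The index of multiplication by `x` between subquotients. -/
noncomputable def ix (x : C) (J I J' I' : Ideal C) : ℤ :=
  if h : Shifts x J I J' I' then Ix A (sqMul x h.1 h.2) else 0

/-- Multiplication by `x` between subquotients has an index. -/
def Good (x : C) (J I J' I' : Ideal C) : Prop := ∃ h : Shifts x J I J' I', FinIx A (sqMul x h.1 h.2)

variable {A}

variable [IsNoetherianRing A] [Module.Finite A C]

theorem ix_eq {x : C} {J I J' I' : Ideal C} (h : Shifts x J I J' I') : ix A x J I J' I' = Ix A (sqMul x h.1 h.2) :=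
  dif_pos h

theorem ix_congr {x y : C} {J I J' I' : Ideal C} (hx : Shifts x J I J' I') (hy : Shifts y J I J' I')
    (h : ∀ z ∈ J, (x - y) * z ∈ I') : ix A x J I J' I' = ix A y J I J' I' := by
  rw [ix_eq hx, ix_eq hy, sqMul_congr (hJy := hy.1) (hIy := hy.2) h]

theorem ix_comp {x y : C} {J I J' I' J'' I'' : Ideal C} (hx : Good A x J I J' I') (hy : Good A y J' I' J'' I'') :
    ix A (y * x) J I J'' I'' = ix A x J I J' I' + ix A y J' I' J'' I'' := by
  obtain ⟨hx, fx⟩ := hx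
  obtain ⟨hy, fy⟩ := hy
  have hxy : Shifts (y * x) J I J'' I'' := ⟨fun z hz => by rw [mul_assoc]; exact hy.1 _ (hx.1 z hz),
    fun z hz => by rw [mul_assoc]; exact hy.2 _ (hx.2 z hz)⟩
  rw [ix_eq hx, ix_eq hy, ix_eq hxy, ← Ix_comp _ _ fx fy, sqMul_comp]

theorem ix_add {x : C} {J K I J' K' I' : Ideal C} (hKJ : K ≤ J) (hIK : I ≤ K) (hKJ' : K' ≤ J') (hIK' : I' ≤ K')
    (h₁ : Good A x K I K' I') (h₃ : Good A x J K J' K') :
    ix A x J I J' I' = ix A x K I K' I' + ix A x J K J' K' := by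
  obtain ⟨h₁, f₁⟩ := h₁
  obtain ⟨h₃, f₃⟩ := h₃
  rw [ix_eq h₁, ix_eq h₃, ix_eq (x := x) (J := J) (I := I) (J' := J') (I' := I') ⟨h₃.1, h₁.2⟩]
  exact Ix_sqMul_add x hKJ hIK hKJ' hIK' h₃.1 h₁.1 h₁.2 f₁ f₃

theorem ix_zero {x : C} {J I J' I' : Ideal C} (h : J ≤ I) (h' : J' ≤ I') : ix A x J I J' I' = 0 := by
  rw [ix]
  split_ifs with hx
  · haveI := subsingleton_SQ h
    haveI := subsingleton_SQ h'
    exact Ix_subsingleton _
  · rfl

/-- Commuting multiplications. -/
theorem ix_comm {x y : C} {J I J' I' : Ideal C} (hy : Good A y J I J' I') (hx : Good A x J I J I)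
    (hx' : Good A x J' I' J' I') : ix A x J I J I = ix A x J' I' J' I' := by
  have h1 := ix_comp hy hx'
  have h2 := ix_comp hx hy
  rw [mul_comm y x, h1] at h2
  omega

end total

section point

variable {A : Type u} [CommRing A] [IsNoetherianRing A] {C : Type u} [CommRing C] [Algebra A C] [Module.Finite A C]
  {L : Type u} [CommRing L] [IsLocalRing L] [IsNoetherianRing L] [Algebra C L]

/-- The ideal of elements of `C` divisible by `π ^ n` in `L`. -/
def Pw (π : L) (n : ℕ) : Ideal C := (Ideal.span {π ^ n}).comap (algebraMap C L)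

theorem mem_Pw {π : L} {n : ℕ} {z : C} : z ∈ (Pw π n : Ideal C) ↔ π ^ n ∣ algebraMap C L z := by
  rw [Pw, Ideal.mem_comap, Ideal.mem_span_singleton]

theorem Pw_zero (π : L) : (Pw π 0 : Ideal C) = ⊤ := by
  rw [Pw, pow_zero, Ideal.span_singleton_one, Ideal.comap_top]

theorem Pw_anti (π : L) {m n : ℕ} (h : m ≤ n) : (Pw π n : Ideal C) ≤ Pw π m := fun z hz =>
  mem_Pw.mpr ((pow_dvd_pow π h).trans (mem_Pw.mp hz))

theorem mul_mem_Pw {π : L} {x : C} {m k k' : ℕ} (hx : π ^ m ∣ algebraMap C L x) (hk : k' ≤ m + k) {z : C}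
    (hz : z ∈ (Pw π k : Ideal C)) : x * z ∈ (Pw π k' : Ideal C) := by
  rw [mem_Pw, map_mul]
  refine (pow_dvd_pow π hk).trans ?_
  rw [pow_add]
  exact mul_dvd_mul hx (mem_Pw.mp hz)

variable (Q : Ideal C) [Q.IsPrime] [IsLocalization.AtPrime L Q]

/-- The hypotheses on a prime and an element of its local ring. -/
structure IsPoint (π : L) : Prop where
  not_maximal : ¬ Q.IsMaximal
  above : ∀ P : Ideal C, P.IsPrime → Q < P → P.IsMaximal
  regular : π ∈ L⁰
  radical : IsLocalRing.maximalIdeal L ≤ (Ideal.span {π}).radical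
  mem_maximal : π ∈ IsLocalRing.maximalIdeal L

variable {Q} {π : L}

theorem exists_notMem_pow (hQ : IsPoint Q π) (n : ℕ) {P : Ideal C} (hP : P.IsPrime) (hmax : ¬ P.IsMaximal) (hne : P ≠ Q) :
    ∃ s, s ∈ (Pw π n : Ideal C) ∧ s ∉ P := by
  obtain ⟨w, hwQ, hwP⟩ := SetLike.not_le_iff_exists.mp fun h => hmax (hQ.above P hP (lt_of_le_of_ne h (Ne.symm hne)))
  obtain ⟨N, hN⟩ := hQ.radical ((IsLocalization.AtPrime.to_map_mem_maximal_iff L Q w).mpr hwQ)
  refine ⟨w ^ (N * n), mem_Pw.mpr ?_, fun h => hwP (hP.mem_of_pow_mem _ h)⟩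
  rw [map_pow, pow_mul]
  exact pow_dvd_pow_of_dvd (Ideal.mem_span_singleton.mp hN) n

/-- Representing an element of the local ring. -/
theorem exists_num (ζ : L) : ∃ z s : C, s ∉ Q ∧ algebraMap C L s * ζ = algebraMap C L z := by
  obtain ⟨⟨z, s⟩, h⟩ := IsLocalization.surj Q.primeCompl ζ
  exact ⟨z, s, s.2, by rw [mul_comm]; exact h⟩

theorem isUnit_of_notMem {x : C} (hx : x ∉ Q) : IsUnit (algebraMap C L x) :=
  IsLocalization.map_units L (⟨x, hx⟩ : Q.primeCompl)

/-- Good multiplications between steps of the filtration. -/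
theorem good_shift (hQ : IsPoint Q π) {x : C} {v : L} (hv : IsUnit v) {m : ℕ} (hx : algebraMap C L x = v * π ^ m)
    (k n : ℕ) {k' n' : ℕ} (hk : k' = m + k) (hn : n' = m + n) :
    Good A x (Pw π k) (Pw π n) (Pw π k') (Pw π n') := by
  subst hk hn
  have hd : π ^ m ∣ algebraMap C L x := hx ▸ dvd_mul_left _ _
  refine ⟨⟨fun z hz => mul_mem_Pw hd le_rfl hz, fun z hz => mul_mem_Pw hd le_rfl hz⟩, finIx_sqMul _ _ _ fun P hP hmax => ?_⟩
  by_cases hne : P = Q
  · subst hne
    constructor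
    · intro z _ hz
      refine ⟨1, (Ideal.ne_top_iff_one _).mp hP.ne_top, ?_⟩
      rw [one_mul, mem_Pw]
      obtain ⟨r, hr⟩ := mem_Pw.mp hz
      rw [map_mul, hx, pow_add, mul_assoc, mul_left_comm, mul_assoc] at hr
      rw [mul_cancel_left_mem_nonZeroDivisors (pow_mem hQ.regular m)] at hr
      exact hv.dvd_mul_left.mp ⟨r, hr⟩
    · intro w hw
      obtain ⟨r, hr⟩ := mem_Pw.mp hw
      obtain ⟨z, s, hs, hz⟩ := exists_num (Q := P) (↑hv.unit⁻¹ * (π ^ k * r))
      refine ⟨s, hs, z, mem_Pw.mpr ?_, mem_Pw.mpr ?_⟩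
      · rw [← hz]
        exact Dvd.dvd.mul_left (Dvd.dvd.mul_left (dvd_mul_right _ _) _) _
      · rw [map_sub, map_mul, map_mul, ← hz, hx, hr, pow_add]
        refine (dvd_zero _).trans (dvd_of_eq ?_)
        linear_combination algebraMap C L s * π ^ m * (π ^ k * r) * hv.mul_val_inv
  · obtain ⟨s, hs, hsP⟩ := exists_notMem_pow hQ (max n (m + n)) hP hmax hne
    refine ⟨fun z _ _ => ⟨s, hsP, Ideal.mul_mem_right _ _ (Pw_anti π (le_max_left _ _) hs)⟩,
      fun w _ => ⟨s, hsP, 0, Submodule.zero_mem _, ?_⟩⟩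
    rw [mul_zero, sub_zero]
    exact Ideal.mul_mem_right _ _ (Pw_anti π (le_max_right _ _) hs)

theorem good_unit (hQ : IsPoint Q π) {x : C} (hx : x ∉ Q) (k n : ℕ) : Good A x (Pw π k) (Pw π n) (Pw π k) (Pw π n) :=
  good_shift hQ (m := 0) (isUnit_of_notMem (L := L) hx) (by rw [pow_zero, mul_one]) k n (Nat.zero_add k).symm (Nat.zero_add n).symm

variable (A Q) in
/-- The order of `x` on `C / Q`. -/
noncomputable def oQ (x : C) : ℤ := ix A x ⊤ Q ⊤ Q

theorem good_quot (hQ : IsPoint Q π) {x : C} (hx : x ∉ Q) : Good A x ⊤ Q ⊤ Q := by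
  refine ⟨⟨fun _ _ => trivial, fun z hz => Q.mul_mem_left x hz⟩, finIx_sqMul _ _ _ fun P hP hmax => ?_⟩
  by_cases hne : P = Q
  · subst hne
    exact ⟨fun z _ hz => ⟨1, (Ideal.ne_top_iff_one _).mp hP.ne_top, by
      rw [one_mul]; exact (hP.mem_or_mem hz).resolve_left hx⟩,
      fun w _ => ⟨x, hx, w, trivial, by rw [sub_self]; exact P.zero_mem⟩⟩
  · obtain ⟨s, hsQ, hsP⟩ := SetLike.not_le_iff_exists.mp fun h => hmax (hQ.above P hP (lt_of_le_of_ne h (Ne.symm hne)))
    exact ⟨fun z _ _ => ⟨s, hsP, Q.mul_mem_right _ hsQ⟩, fun w _ => ⟨s, hsP, 0, trivial, by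
      rw [mul_zero, sub_zero]; exact Q.mul_mem_right _ hsQ⟩⟩

theorem length_quotient_ne_top (hQ : IsPoint Q π) : Module.length L (L ⧸ Ideal.span {π}) ≠ ⊤ := by
  refine H22Alg.length_ne_top_of_support_maximal fun p hp => ?_
  rw [Module.support_eq_zeroLocus, Ideal.annihilator_quotient, PrimeSpectrum.mem_zeroLocus, SetLike.coe_subset_coe] at hp
  have h : IsLocalRing.maximalIdeal L ≤ p.asIdeal := hQ.radical.trans (p.isPrime.radical_le_iff.mpr hp)
  rw [← (IsLocalRing.maximalIdeal.isMaximal L).eq_of_le p.isPrime.ne_top h]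
  exact IsLocalRing.maximalIdeal.isMaximal L

/-- The order on a layer counts with multiplicity. -/
theorem ix_layer (hQ : IsPoint Q π) {x : C} (hx : x ∉ Q) :
    ix A x ⊤ (Pw π 1) ⊤ (Pw π 1) = ((Module.length L (L ⧸ Ideal.span {π})).toNat : ℤ) * oQ A Q x := by
  let cm : Ideal L → Ideal C := fun J => J.comap (algebraMap C L)
  suffices key : ∀ (N : ℕ) (J : Ideal L), Ideal.span {π} ≤ J → (Module.length L (L ⧸ J)).toNat = N →
      ix A x ⊤ (cm J) ⊤ (cm J) = (N : ℤ) * oQ A Q x by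
    have := key _ _ le_rfl rfl
    rwa [show cm (Ideal.span {π}) = Pw π 1 by rw [Pw, pow_one]] at this
  have hfinJ : ∀ J : Ideal L, Ideal.span {π} ≤ J → Module.length L (L ⧸ J) ≠ ⊤ := fun J hJ =>
    ne_top_of_le_ne_top (length_quotient_ne_top hQ) (Module.length_le_of_surjective (Submodule.factor hJ) (Submodule.factor_surjective hJ))
  have hgood : ∀ J J' : Ideal L, Ideal.span {π} ≤ J → J ≤ J' → Good A x (cm J') (cm J) (cm J') (cm J) := by
    intro J J' hJ hJJ'
    refine ⟨⟨fun z hz => Ideal.mul_mem_left _ x hz, fun z hz => Ideal.mul_mem_left _ x hz⟩, finIx_sqMul _ _ _ fun P hP hmax => ?_⟩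
    by_cases hne : P = Q
    · subst hne
      exact ⟨fun z _ hz => ⟨x, hx, hz⟩, fun w hw => ⟨x, hx, w, hw, by rw [sub_self]; exact Submodule.zero_mem _⟩⟩
    · obtain ⟨s, hs, hsP⟩ := exists_notMem_pow hQ 1 hP hmax hne
      have hsJ : s ∈ cm J := hJ (Ideal.mem_span_singleton.mpr (pow_one π ▸ mem_Pw.mp hs))
      exact ⟨fun z _ _ => ⟨s, hsP, (cm J).mul_mem_right _ hsJ⟩, fun w _ => ⟨s, hsP, 0, Submodule.zero_mem _, by
        rw [mul_zero, sub_zero]; exact (cm J).mul_mem_right _ hsJ⟩⟩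
  intro N
  induction N with
  | zero =>
    intro J hJ hN
    rw [ENat.toNat_eq_zero, or_iff_left (hfinJ J hJ), Module.length_eq_zero_iff, Ideal.Quotient.subsingleton_iff] at hN
    subst hN
    rw [show cm ⊤ = ⊤ from Ideal.comap_top, ix_zero le_top le_top, Nat.cast_zero, zero_mul]
  | succ N ih =>
    intro J hJ hN
    haveI : Nontrivial (L ⧸ J) := Module.length_pos_iff.mp (pos_iff_ne_zero.mpr fun h => by rw [h, ENat.toNat_zero] at hN; omega)
    have hfl : IsFiniteLength L (L ⧸ J) := Module.length_ne_top_iff.mp (hfinJ J hJ)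
    haveI : IsArtinian L (L ⧸ J) := (isFiniteLength_iff_isNoetherian_isArtinian.mp hfl).2
    obtain ⟨T, hT, -⟩ := (IsAtomic.eq_bot_or_exists_atom_le (⊤ : Submodule L (L ⧸ J))).resolve_left top_ne_bot
    haveI : IsSimpleModule L T := isSimpleModule_iff_isAtom.mpr hT
    obtain ⟨y, hy, hy0⟩ := (Submodule.ne_bot_iff T).mp hT.1
    obtain ⟨g, rfl⟩ := Ideal.Quotient.mk_surjective y
    have hg : g ∉ J := fun h => hy0 (Ideal.Quotient.eq_zero_iff_mem.mpr h)
    have hgm : ∀ r ∈ IsLocalRing.maximalIdeal L, r * g ∈ J := by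
      intro r hr
      obtain ⟨m', hm', ⟨ε⟩⟩ := isSimpleModule_iff_quot_maximal.mp (inferInstance : IsSimpleModule L T)
      have : r • (⟨_, hy⟩ : T) = 0 := ε.injective (by
        rw [map_smul, map_zero]
        obtain ⟨z, hz⟩ := Ideal.Quotient.mk_surjective (ε ⟨_, hy⟩)
        rw [← hz, ← Ideal.Quotient.mkₐ_eq_mk L, ← map_smul, Ideal.Quotient.mkₐ_eq_mk, Ideal.Quotient.eq_zero_iff_mem]
        rw [IsLocalRing.eq_maximalIdeal hm']
        exact Ideal.mul_mem_right _ _ hr)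
      exact Ideal.Quotient.eq_zero_iff_mem.mp (congrArg Subtype.val this)
    let J' := J ⊔ Ideal.span {g}
    have hJJ' : J ≤ J' := le_sup_left
    have hlenR : Module.length L (L ⧸ J) = 1 + Module.length L (L ⧸ J') := by
      let ι : (L ⧸ IsLocalRing.maximalIdeal L) →ₗ[L] L ⧸ J :=
        (IsLocalRing.maximalIdeal L).liftQ ((Submodule.mkQ J).comp (LinearMap.toSpanSingleton L L g))
          (fun r hr => by rw [LinearMap.mem_ker]; exact Ideal.Quotient.eq_zero_iff_mem.mpr (hgm r hr))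
      haveI : IsSimpleModule L (L ⧸ IsLocalRing.maximalIdeal L) :=
        isSimpleModule_iff_isCoatom.mpr (Ideal.isMaximal_def.mp inferInstance)
      rw [Module.length_eq_add_of_exact ι (Submodule.factor hJJ') ?_ (Submodule.factor_surjective hJJ') ?_, Module.length_eq_one]
      · rw [injective_iff_map_eq_zero]
        intro w hw
        obtain ⟨r, rfl⟩ := Ideal.Quotient.mk_surjective w
        refine Ideal.Quotient.eq_zero_iff_mem.mpr ?_
        have hw' : r * g ∈ J := Ideal.Quotient.eq_zero_iff_mem.mp hw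
        by_contra hu
        exact hg ((Ideal.unit_mul_mem_iff_mem J (IsLocalRing.notMem_maximalIdeal.mp hu)).mp hw')
      · intro w
        obtain ⟨r, rfl⟩ := Ideal.Quotient.mk_surjective w
        show Ideal.Quotient.mk J' r = 0 ↔ _
        rw [Ideal.Quotient.eq_zero_iff_mem]
        constructor
        · intro hr
          obtain ⟨j, hj, t, ht, hjt⟩ := Submodule.mem_sup.mp hr
          obtain ⟨s, rfl⟩ := Ideal.mem_span_singleton'.mp ht
          refine ⟨Ideal.Quotient.mk _ s, ?_⟩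
          show Ideal.Quotient.mk J (s * g) = Ideal.Quotient.mk J r
          rw [← hjt, map_add, Ideal.Quotient.eq_zero_iff_mem.mpr hj, zero_add]
        · rintro ⟨w', hw'⟩
          obtain ⟨s, rfl⟩ := Ideal.Quotient.mk_surjective w'
          have : s * g - r ∈ J := Ideal.Quotient.eq.mp hw'
          have h2 := J'.sub_mem (Ideal.mem_sup_right (Ideal.mul_mem_left _ s (Ideal.mem_span_singleton_self g))) (hJJ' this)
          rwa [sub_sub_cancel] at h2
    have hN' : (Module.length L (L ⧸ J')).toNat = N := by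
      rw [hlenR, ENat.toNat_add ENat.one_ne_top (hfinJ J' (hJ.trans hJJ')), ENat.toNat_one] at hN
      omega
    obtain ⟨z₀, s₀, hs₀, hz₀⟩ := exists_num (Q := Q) g
    have hmaxQ : ∀ z : C, z ∈ Q → algebraMap C L z ∈ IsLocalRing.maximalIdeal L := fun z hz =>
      (IsLocalization.AtPrime.to_map_mem_maximal_iff L Q z).mpr hz
    have hu₀ := isUnit_of_notMem (L := L) hs₀
    have hz : Good A z₀ ⊤ Q (cm J') (cm J) := by
      refine ⟨⟨fun z _ => ?_, fun z hz => ?_⟩, finIx_sqMul _ _ _ fun P hP hmax => ?_⟩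
      · show algebraMap C L (z₀ * z) ∈ J'
        rw [map_mul, ← hz₀]
        exact Ideal.mul_mem_right _ _ (Ideal.mul_mem_left _ _ (Ideal.mem_sup_right (Ideal.mem_span_singleton_self g)))
      · show algebraMap C L (z₀ * z) ∈ J
        rw [map_mul, ← hz₀, mul_assoc, mul_comm g]
        exact Ideal.mul_mem_left _ _ (hgm _ (hmaxQ z hz))
      by_cases hne : P = Q
      · subst hne
        refine ⟨fun z _ hz => ⟨1, (Ideal.ne_top_iff_one _).mp hP.ne_top, ?_⟩, fun w hw => ?_⟩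
        · rw [one_mul]
          by_contra hzQ
          have hz' : algebraMap C L (z₀ * z) ∈ J := hz
          rw [map_mul, ← hz₀, mul_comm] at hz'
          rw [Ideal.unit_mul_mem_iff_mem J (isUnit_of_notMem hzQ), Ideal.unit_mul_mem_iff_mem J hu₀] at hz'
          exact hg hz'
        · obtain ⟨j, hj, t, ht, hjt⟩ := Submodule.mem_sup.mp (show algebraMap C L w ∈ J ⊔ Ideal.span {g} from hw)
          obtain ⟨r, rfl⟩ := Ideal.mem_span_singleton'.mp ht
          obtain ⟨z, s, hs, hzs⟩ := exists_num (Q := P) (↑hu₀.unit⁻¹ * r)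
          refine ⟨s, hs, z, trivial, ?_⟩
          show algebraMap C L (s * w - z₀ * z) ∈ J
          rw [map_sub, map_mul, map_mul, ← hz₀, ← hjt, ← hzs]
          rw [show algebraMap C L s * (j + r * g) - algebraMap C L s₀ * g * (algebraMap C L s * (↑hu₀.unit⁻¹ * r)) = algebraMap C L s * j by
            linear_combination (-(algebraMap C L s * r * g)) * hu₀.mul_val_inv]
          exact J.mul_mem_left _ hj
      · obtain ⟨s, hsQ, hsP⟩ := SetLike.not_le_iff_exists.mp fun h => hmax (hQ.above P hP (lt_of_le_of_ne h (Ne.symm hne)))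
        obtain ⟨s', hs', hs'P⟩ := exists_notMem_pow hQ 1 hP hmax hne
        have hsJ : s' ∈ cm J := hJ (Ideal.mem_span_singleton.mpr (pow_one π ▸ mem_Pw.mp hs'))
        exact ⟨fun z _ _ => ⟨s, hsP, Q.mul_mem_right _ hsQ⟩, fun w _ => ⟨s', hs'P, 0, trivial, by
          rw [mul_zero, sub_zero]; exact (cm J).mul_mem_right _ hsJ⟩⟩
    rw [ix_add (J := ⊤) (K := cm J') (J' := ⊤) (K' := cm J') le_top (Ideal.comap_mono hJJ') le_top (Ideal.comap_mono hJJ')
        (hgood J J' hJ hJJ') (by simpa [cm, Ideal.comap_top] using hgood J' ⊤ (hJ.trans hJJ') le_top),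
      ih J' (hJ.trans hJJ') hN', ← ix_comm hz (good_quot hQ hx) (hgood J J' hJ hJJ'), ← oQ]
    push_cast
    ring

/-- Multiplication by a unit at `Q` on consecutive steps. -/
theorem ix_unit (hQ : IsPoint Q π) {c : C} {w : L} (hw : IsUnit w) (hc : algebraMap C L c = w * π) {x : C} (hx : x ∉ Q)
    (m n : ℕ) : ix A x (Pw π m) (Pw π (m + n)) (Pw π m) (Pw π (m + n)) =
      (n : ℤ) * ((Module.length L (L ⧸ Ideal.span {π})).toNat * oQ A Q x) := by
  have hcp : ∀ k : ℕ, algebraMap C L (c ^ k) = w ^ k * π ^ k := fun k => by rw [map_pow, hc, mul_pow]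
  have hg : ∀ k n : ℕ, Good A (c ^ k) (Pw π 0) (Pw π n) (Pw π k) (Pw π (k + n)) := fun k n =>
    good_shift hQ (hw.pow k) (hcp k) 0 n rfl rfl
  suffices key : ∀ n, ix A x (Pw π 0) (Pw π n) (Pw π 0) (Pw π n) =
      (n : ℤ) * ((Module.length L (L ⧸ Ideal.span {π})).toNat * oQ A Q x) by
    rw [← key, ix_comm (hg m n) (good_unit hQ hx 0 n) (good_unit hQ hx m (m + n))]
  intro n
  induction n with
  | zero => rw [ix_zero le_rfl le_rfl, Nat.cast_zero, zero_mul]
  | succ n ih =>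
    rw [ix_add (K := Pw π n) (K' := Pw π n) (Pw_anti π (Nat.zero_le n)) (Pw_anti π (Nat.le_succ n)) (Pw_anti π (Nat.zero_le n))
        (Pw_anti π (Nat.le_succ n)) (good_unit hQ hx n (n + 1)) (good_unit hQ hx 0 n),
      ← ix_comm (hg n 1) (good_unit hQ hx 0 1) (good_unit hQ hx n (n + 1)), ih, Pw_zero π, ix_layer hQ hx]
    push_cast
    ring

/-- The index of a power of a parameter is symmetric. -/
theorem ix_pow_symm (hQ : IsPoint Q π) {c : C} {w : L} (hw : IsUnit w) (hc : algebraMap C L c = w * π) (m n : ℕ) :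
    ix A (c ^ m) (Pw π 0) (Pw π n) (Pw π m) (Pw π (m + n)) = ix A (c ^ n) (Pw π 0) (Pw π m) (Pw π n) (Pw π (n + m)) := by
  let ε : ℕ → ℤ := fun k => ix A (c ^ k) (Pw π 0) (Pw π 1) (Pw π k) (Pw π (k + 1))
  have hcp : ∀ k : ℕ, algebraMap C L (c ^ k) = w ^ k * π ^ k := fun k => by rw [map_pow, hc, mul_pow]
  have hg : ∀ (p k n : ℕ), Good A (c ^ p) (Pw π k) (Pw π n) (Pw π (p + k)) (Pw π (p + n)) := fun p k n =>
    good_shift hQ (hw.pow p) (hcp p) k n rfl rfl
  have hgr : ∀ p k : ℕ, ix A (c ^ p) (Pw π k) (Pw π (k + 1)) (Pw π (p + k)) (Pw π (p + (k + 1))) = ε (p + k) - ε k := by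
    intro p k
    have h := ix_comp (show Good A (c ^ k) (Pw π 0) (Pw π 1) (Pw π k) (Pw π (k + 1)) by
      simpa using hg k 0 1) (hg p k (k + 1))
    rw [← pow_add, ← Nat.add_assoc p k 1] at h
    rw [← Nat.add_assoc p k 1]
    simp only [ε]
    linarith
  have key : ∀ p n : ℕ, ix A (c ^ p) (Pw π 0) (Pw π n) (Pw π p) (Pw π (p + n)) =
      ∑ k ∈ Finset.range n, ε (p + k) - ∑ k ∈ Finset.range n, ε k := by
    intro p n
    induction n with
    | zero => rw [ix_zero le_rfl (Pw_anti π (Nat.le_of_eq (Nat.add_zero p)))]; simp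
    | succ n ih =>
      rw [ix_add (K := Pw π n) (K' := Pw π (p + n)) (Pw_anti π (Nat.zero_le n)) (Pw_anti π (Nat.le_succ n))
        (Pw_anti π (Nat.le_add_right p n)) (Pw_anti π (Nat.add_le_add_left (Nat.le_succ n) p)) (hg p n (n + 1))
        (by simpa using hg p 0 n), hgr, ih, Finset.sum_range_succ, Finset.sum_range_succ]
      ring
  have hS := Finset.sum_range_add ε m n
  have hS' := Finset.sum_range_add ε n m
  rw [Nat.add_comm n m] at hS'
  rw [key, key]
  linarith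

/-- The index of multiplication by an element with a given factorization. -/
theorem ix_factor (hQ : IsPoint Q π) {c σ : C} (hσ : σ ∉ Q) (hc : algebraMap C L σ * π = algebraMap C L c)
    {a x s : C} (hxQ : x ∉ Q) (hsQ : s ∉ Q) {u : L} (hu : IsUnit u) (e f : ℕ) (ha : algebraMap C L a = u * π ^ e)
    (hus : algebraMap C L s * u = algebraMap C L x) :
    ix A a (Pw π 0) (Pw π f) (Pw π e) (Pw π (e + f)) =
      (f : ℤ) * ((Module.length L (L ⧸ Ideal.span {π})).toNat * (oQ A Q x - oQ A Q s - oQ A Q (σ ^ e)))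
        + ix A (c ^ e) (Pw π 0) (Pw π f) (Pw π e) (Pw π (e + f)) := by
  have hw := isUnit_of_notMem (L := L) hσ
  have hσe : σ ^ e ∉ Q := fun h => hσ (Ideal.IsPrime.mem_of_pow_mem inferInstance _ h)
  have ga : Good A a (Pw π 0) (Pw π f) (Pw π e) (Pw π (e + f)) := good_shift hQ hu ha 0 f rfl rfl
  have gc : Good A (c ^ e) (Pw π 0) (Pw π f) (Pw π e) (Pw π (e + f)) :=
    good_shift hQ (hw.pow e) (by rw [map_pow, ← hc, mul_pow]) 0 f rfl rfl
  have gs := good_unit (A := A) hQ hsQ e (e + f)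
  have gσ := good_unit (A := A) hQ hσe e (e + f)
  have gx := good_unit (A := A) hQ hxQ 0 f
  have gsa : Good A (σ ^ e * a) (Pw π 0) (Pw π f) (Pw π e) (Pw π (e + f)) :=
    good_shift hQ ((hw.pow e).mul hu) (by rw [map_mul, map_pow, ha, mul_assoc]) 0 f rfl rfl
  have h1 := ix_comp ga gσ
  have h2 := ix_comp gsa gs
  have h3 := ix_comp gx gc
  have h4 : ix A (s * (σ ^ e * a)) (Pw π 0) (Pw π f) (Pw π e) (Pw π (e + f)) =
      ix A (c ^ e * x) (Pw π 0) (Pw π f) (Pw π e) (Pw π (e + f)) := by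
    refine ix_congr ⟨fun z hz => by rw [mul_assoc]; exact gs.1.1 _ (gsa.1.1 z hz), fun z hz => by
        rw [mul_assoc]; exact gs.1.2 _ (gsa.1.2 z hz)⟩
      ⟨fun z hz => by rw [mul_assoc]; exact gc.1.1 _ (gx.1.1 z hz), fun z hz => by
        rw [mul_assoc]; exact gc.1.2 _ (gx.1.2 z hz)⟩ fun z _ => ?_
    rw [mem_Pw, map_mul, map_sub]
    refine (dvd_zero _).trans (dvd_of_eq ?_)
    simp only [map_mul, map_pow, ha, ← hc, ← hus, mul_pow]
    ring
  have E1 := ix_unit (A := A) hQ hw hc.symm hxQ 0 f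
  have E2 := ix_unit (A := A) hQ hw hc.symm hsQ e f
  have E3 := ix_unit (A := A) hQ hw hc.symm hσe e f
  rw [Nat.zero_add] at E1
  linear_combination (f : ℤ) * 0 + E1 - E2 - E3 + h3 - h2 - h1 + h4

theorem oQ_mul (hQ : IsPoint Q π) {x y : C} (hx : x ∉ Q) (hy : y ∉ Q) : oQ A Q (y * x) = oQ A Q x + oQ A Q y :=
  ix_comp (good_quot hQ hx) (good_quot hQ hy)

theorem oQ_pow (hQ : IsPoint Q π) {x : C} (hx : x ∉ Q) (n : ℕ) : oQ A Q (x ^ n) = (n : ℤ) * oQ A Q x := by
  have hpow : ∀ k : ℕ, x ^ k ∉ Q := fun k h => hx (Ideal.IsPrime.mem_of_pow_mem inferInstance _ h)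
  induction n with
  | zero =>
    have := oQ_mul (A := A) hQ (hpow 0) (hpow 0)
    rw [pow_zero, one_mul] at this
    rw [pow_zero]; push_cast; linarith
  | succ n ih =>
    rw [pow_succ', oQ_mul hQ (hpow n) hx, ih]
    push_cast; ring

/-- The difference of the two indices at a point. -/
theorem point_diff (hQ : IsPoint Q π) {a b x s y t : C} (hxQ : x ∉ Q) (hsQ : s ∉ Q) (hyQ : y ∉ Q) (htQ : t ∉ Q)
    {u v : L} (hu : IsUnit u) (hv : IsUnit v) (e f : ℕ) (ha : algebraMap C L a = u * π ^ e)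
    (hb : algebraMap C L b = v * π ^ f) (hus : algebraMap C L s * u = algebraMap C L x)
    (hvt : algebraMap C L t * v = algebraMap C L y) :
    ix A a (Pw π 0) (Pw π f) (Pw π e) (Pw π (e + f)) - ix A b (Pw π 0) (Pw π e) (Pw π f) (Pw π (e + f)) =
      ((Module.length L (L ⧸ Ideal.span {π})).toNat : ℤ) *
        ((f : ℤ) * (oQ A Q x - oQ A Q s) - (e : ℤ) * (oQ A Q y - oQ A Q t)) := by
  obtain ⟨c, σ, hσ, hc⟩ := exists_num (Q := Q) π
  have h1 := ix_factor (A := A) hQ hσ hc hxQ hsQ hu e f ha hus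
  have h2 := ix_factor (A := A) hQ hσ hc hyQ htQ hv f e hb hvt
  have h3 := ix_pow_symm (A := A) hQ (isUnit_of_notMem (L := L) hσ) hc.symm e f
  rw [Nat.add_comm f e] at h2 h3
  rw [h1, h2, oQ_pow hQ hσ, oQ_pow hQ hσ, h3]
  ring

end point

end Groth.Agent.H3CAlg.Recip
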